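import Groth.Agent.RelCurveDiv.Fibre
import Groth.Agent.GenusLe.Birat
import Mathlib.AlgebraicGeometry.Morphisms.QuasiFinite

/-! The support of a divisor in the fibres of a curve family. -/

noncomputable section

set_option linter.style.haveILetI false

universe u

open CategoryTheory CategoryTheory.Limits AlgebraicGeometry TopologicalSpace IsLocalRing

namespace Groth.Agent.RelCurveDiv

open Groth.Agent

variable {X S : Scheme.{u}} (f : X ⟶ S) [SmoothOfRelativeDimension 1 f]

/-- At a point of a locally quasi-finite closed subscheme the ideal does not vanish on the fibre. -/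
theorem not_le_fibIdeal (I : X.IdealSheafData) [LocallyQuasiFinite (I.subschemeι ≫ f)] (U : X.affineOpens)
    (hfg : (I.ideal U).FG) {x : X} (hxU : x ∈ U.1) (hx : x ∈ I.support) :
    ¬ (I.ideal U).map (X.presheaf.germ U.1 x hxU).hom ≤ fibIdeal f x := by
  intro hle
  let G := f.fiber (f x)
  let ι := f.fiberι (f x)
  let z : G := f.asFiber x
  have hz : ι z = x := f.fiberι_asFiber x
  obtain ⟨t, ht⟩ := hfg
  -- near `z` the fibre lies in the support
  have hW : ∀ a ∈ t, ∃ O : G.Opens, z ∈ O ∧ ∀ w ∈ O, ι w ∈ U.1 ∧ ι w ∉ X.basicOpen a := by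
    intro a ha
    have hzU : z ∈ ι ⁻¹ᵁ U.1 := show ι z ∈ U.1 by rw [hz]; exact hxU
    have hker := FibFlat.ker_sm_fiberι f (f x) z x hz
    rw [FibFlat.sm_self] at hker
    have h0 : G.presheaf.germ (ι ⁻¹ᵁ U.1) z hzU (ι.app U.1 a) = G.presheaf.germ (ι ⁻¹ᵁ U.1) z hzU 0 := by
      rw [map_zero]
      have h1 : X.presheaf.germ U.1 x hxU a ∈ RingHom.ker (FibFlat.sm ι z x hz) :=
        hker.ge (hle (Ideal.mem_map_of_mem _ (ht ▸ Submodule.subset_span ha)))
      refine Eq.trans ?_ (RingHom.mem_ker.1 h1)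
      simp only [FibFlat.sm, CommRingCat.hom_comp, RingHom.comp_apply]
      rw [TopCat.Presheaf.germ_stalkSpecializes_apply]
      exact (Scheme.Hom.germ_stalkMap_apply ι U.1 z hzU a).symm
    obtain ⟨O, hzO, i₁, i₂, hO⟩ := G.presheaf.germ_eq z hzU hzU _ _ h0
    refine ⟨O, hzO, fun w hw => ⟨i₁.le hw, fun hb => ?_⟩⟩
    rw [Scheme.mem_basicOpen _ _ _ (show ι w ∈ U.1 from i₁.le hw)] at hb
    have h2 := hb.map (ι.stalkMap w).hom
    rw [Scheme.Hom.germ_stalkMap_apply, ← TopCat.Presheaf.germ_res_apply G.presheaf i₁ w hw, hO,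
      map_zero, map_zero] at h2
    exact not_isUnit_zero h2
  choose O hzO hO using hW
  let W₀ : G.Opens := ⟨⋂ a : t, (O a.1 a.2 : Set G), isOpen_iInter_of_finite fun a => (O a.1 a.2).2⟩
  have hzW₀ : z ∈ W₀ := Set.mem_iInter.2 fun a => hzO a.1 a.2
  have hU0 : z ∈ ι ⁻¹ᵁ U.1 := show ι z ∈ U.1 by rw [hz]; exact hxU
  have hsupp : ∀ w ∈ W₀ ⊓ ι ⁻¹ᵁ U.1, ι w ∈ I.support := fun w hw => by
    rw [Scheme.IdealSheafData.mem_support_iff_of_mem (U := U) hw.2, ← ht, Scheme.zeroLocus_span,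
      Scheme.mem_zeroLocus_iff]
    exact fun a ha => (hO a ha w (Set.mem_iInter.1 hw.1 ⟨a, ha⟩)).2
  -- but the fibre of the closed subscheme is discrete
  have hxr : x ∈ Set.range I.subschemeι := by rw [Scheme.IdealSheafData.range_subschemeι]; exact hx
  obtain ⟨d, hd⟩ := hxr
  have hdd : d ∈ (I.subschemeι ≫ f) ⁻¹' {f x} := by
    simp [Set.mem_preimage, Scheme.Hom.comp_apply, hd]
  obtain ⟨OD, hOD, hODd⟩ := (isDiscrete_iff_forall_mem_exists_isOpen).1
    ((I.subschemeι ≫ f).isDiscrete_preimage_singleton (f x)) d hdd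
  obtain ⟨O', hO', rfl⟩ := I.subschemeι.isClosedEmbedding.isInducing.isOpen_iff.1 hOD
  let O₁ : G.Opens := (W₀ ⊓ ι ⁻¹ᵁ U.1) ⊓ ι ⁻¹ᵁ ⟨O', hO'⟩
  have hO₁ : (O₁ : Set G) = {z} := by
    refine Set.Subset.antisymm (fun w hw => ?_) (Set.singleton_subset_iff.2 ⟨⟨hzW₀, hU0⟩, ?_⟩)
    · have hsw := hsupp w hw.1
      rw [← SetLike.mem_coe, ← Scheme.IdealSheafData.range_subschemeι] at hsw
      obtain ⟨d', hd'⟩ := hsw
      have hfw : f (ι w) = f x := by
        have : ι w ∈ Set.range ι := ⟨w, rfl⟩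
        rw [Scheme.Hom.range_fiberι] at this
        exact this
      have hd'' : d' ∈ I.subschemeι ⁻¹' O' ∩ (I.subschemeι ≫ f) ⁻¹' {f x} :=
        ⟨show I.subschemeι d' ∈ O' from hd' ▸ hw.2,
          by simp [Set.mem_preimage, Scheme.Hom.comp_apply, hd', hfw]⟩
      rw [hODd, Set.mem_singleton_iff] at hd''
      subst hd''
      exact ι.isEmbedding.injective (hd'.symm.trans (hd.trans hz.symm))
    · have : d ∈ I.subschemeι ⁻¹' O' := by
        have h := hODd.ge (Set.mem_singleton d)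
        exact h.1
      show ι z ∈ O'
      rw [hz, ← hd]
      exact this
  have h1 : FlatMor.fibreDimAt f x = ((1 : ℕ) : WithBot ℕ∞) := S2768.result 1 f x
  have h2 : FlatMor.fibreDimAt f x ≤ ((0 : ℕ) : WithBot ℕ∞) := by
    refine (iInf_le (fun V : {V : Opens G // z ∈ V} => topologicalKrullDim (V.1 : Set G))
      ⟨O₁, show z ∈ (O₁ : Set G) from hO₁ ▸ rfl⟩).trans ?_
    haveI : Subsingleton (O₁ : Set G) := by rw [hO₁]; infer_instance
    haveI : Subsingleton (IrreducibleCloseds (O₁ : Set G)) := ⟨fun A B => IrreducibleCloseds.ext (by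
      rw [(Set.subsingleton_univ.anti (Set.subset_univ (A : Set (O₁ : Set G)))).eq_singleton_of_mem
          A.isIrreducible.nonempty.some_mem,
        (Set.subsingleton_univ.anti (Set.subset_univ (B : Set (O₁ : Set G)))).eq_singleton_of_mem
          B.isIrreducible.nonempty.some_mem, Subsingleton.elim A.isIrreducible.nonempty.some
          B.isIrreducible.nonempty.some])⟩
    exact_mod_cast Order.krullDim_nonpos_of_subsingleton
  rw [h1] at h2
  exact absurd h2 (by norm_num)

/-- A closed subscheme whose ideal does not vanish on the fibres meets each fibre in a discrete set. -/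
theorem isDiscrete_of_notMem_fibIdeal (I : X.IdealSheafData)
    (h : ∀ x ∈ I.support, ∃ (U : X.affineOpens) (hxU : x ∈ U.1) (a : Γ(X, U.1)),
      a ∈ I.ideal U ∧ X.presheaf.germ U.1 x hxU a ∉ fibIdeal f x) (s : S) :
    _root_.IsDiscrete ((I.subschemeι ≫ f) ⁻¹' {s}) := by
  let G := f.fiber s
  let ι := f.fiberι s
  haveI := SmoothOfRelativeDimension.smooth 1 f
  haveI : LocallyOfFiniteType (f.fiberToSpecResidueField s) :=
    MorphismProperty.pullback_snd (P := @LocallyOfFiniteType) _ _ inferInstance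
  haveI : IsLocallyNoetherian G := LocallyOfFiniteType.isLocallyNoetherian (f.fiberToSpecResidueField s)
  have hs : ∀ w, f (ι w) = s := fun w => by
    have : ι w ∈ Set.range ι := ⟨w, rfl⟩
    rw [Scheme.Hom.range_fiberι] at this
    exact this
  let Z : Set G := ι ⁻¹' (I.support : Set X)
  have hZc : IsClosed Z := I.support.isClosed.preimage ι.continuous
  have hspec : ∀ w ∈ Z, ∀ w' ∈ Z, w ⤳ w' → w' ⤳ w := by
    intro w hw w' hw' hsp
    obtain ⟨U, hxU, a, ha, hna⟩ := h (ι w') hw'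
    have hwU : ι w ∈ U.1 := (hsp.map ι.continuous).mem_open U.1.2 hxU
    obtain ⟨h1, h2⟩ := stalkFibre_facts f (ι w')
    have hker := FibFlat.ker_sm_fiberι f s w' (ι w') rfl
    rw [FibFlat.sm_self, FibFlat.sm_self] at hker
    let e := (Ideal.quotEquivOfEq hker).symm.trans
      (RingHom.quotientKerEquivOfSurjective (ι.stalkMap_surjective w'))
    haveI : IsDomain (G.presheaf.stalk w') := e.symm.toMulEquiv.isDomain _
    haveI : IsPrincipalIdealRing (G.presheaf.stalk w') :=
      IsPrincipalIdealRing.of_surjective e.toRingHom e.surjective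
    let ψ := (G.presheaf.stalkSpecializes hsp).hom
    have hP : (maximalIdeal (G.presheaf.stalk w)).comap ψ ≠ ⊥ := fun hbot => by
      have hmem : ι.stalkMap w' (X.presheaf.germ U.1 (ι w') hxU a) ∈ (maximalIdeal (G.presheaf.stalk w)).comap ψ := by
        rw [Ideal.mem_comap, mem_maximalIdeal, mem_nonunits_iff]
        rw [Scheme.Hom.germ_stalkMap_apply]
        show ¬ IsUnit (G.presheaf.stalkSpecializes hsp (G.presheaf.germ (ι ⁻¹ᵁ U.1) w' hxU (ι.app U.1 a)))
        rw [TopCat.Presheaf.germ_stalkSpecializes_apply]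
        intro hu
        rw [← Scheme.Hom.germ_stalkMap_apply] at hu
        have hu' := IsLocalHom.map_nonunit _ hu
        have hw2 := (Scheme.IdealSheafData.mem_support_iff_of_mem (U := U) hwU).1 hw
        rw [Scheme.mem_zeroLocus_iff] at hw2
        exact hw2 a ha ((Scheme.mem_basicOpen _ _ _ hwU).2 hu')
      rw [hbot, Ideal.mem_bot] at hmem
      exact hna (hker.le (RingHom.mem_ker.2 hmem))
    have hmax := IsLocalRing.eq_maximalIdeal (Ideal.IsPrime.isMaximal
      (Ideal.comap_isPrime ψ (maximalIdeal (G.presheaf.stalk w))) hP)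
    obtain ⟨_, ⟨V, hV, rfl⟩, hwV, -⟩ :=
      G.isBasis_affineOpens.exists_subset_of_mem_open (Set.mem_univ w') isOpen_univ
    refine specializes_iff_forall_open.2 fun O hO hwO => ?_
    obtain ⟨c, hcO, hwc⟩ := hV.exists_basicOpen_le (V := ⟨O, hO⟩) ⟨w, hwO⟩ (hsp.mem_open V.2 hwV)
    refine hcO ((Scheme.mem_basicOpen _ _ _ hwV).2 ?_)
    by_contra hnu
    have : G.presheaf.germ V w' hwV c ∈ (maximalIdeal (G.presheaf.stalk w)).comap ψ :=
      hmax ▸ (mem_maximalIdeal _).2 hnu
    rw [Ideal.mem_comap, mem_maximalIdeal, mem_nonunits_iff] at this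
    simp only [ψ, TopCat.Presheaf.germ_stalkSpecializes_apply] at this
    exact this ((Scheme.mem_basicOpen _ _ _ _).1 hwc)
  rw [isDiscrete_iff_forall_mem_exists_isOpen]
  intro d hd
  obtain ⟨w, hw⟩ : I.subschemeι d ∈ Set.range ι := by
    rw [Scheme.Hom.range_fiberι]
    simpa [Scheme.Hom.comp_apply] using hd
  have hsup : ∀ d', I.subschemeι d' ∈ (I.support : Set X) := fun d' => by
    rw [← Scheme.IdealSheafData.range_subschemeι]; exact ⟨d', rfl⟩
  have hwZ : w ∈ Z := show ι w ∈ (I.support : Set X) from hw ▸ hsup d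
  obtain ⟨V, hV, hwV, -⟩ := exists_isAffineOpen_mem_and_subset (X := G) (x := w) (U := ⊤) trivial
  haveI : IsAffine V.toScheme := hV
  haveI : IsNoetherian V.toScheme := { }
  have hfin := GenusLe.finite_of_isClosed_points (X := V.toScheme) (hZc.preimage V.ι.continuous) fun v hv => by
    refine closure_subset_iff_isClosed.1 fun v' hv' => ?_
    have h1 : v ⤳ v' := specializes_iff_mem_closure.2 hv'
    have hv'Z : v' ∈ V.ι ⁻¹' Z := h1.mem_closed (hZc.preimage V.ι.continuous) hv
    have h2 : V.ι v' ⤳ V.ι v := hspec _ hv _ hv'Z (h1.map V.ι.continuous)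
    exact V.ι.isOpenEmbedding.injective (h2.antisymm (h1.map V.ι.continuous)).eq
  have hcl : IsClosed ((V.ι ⁻¹' Z) \ {⟨w, hwV⟩} : Set V.toScheme) := by
    refine ((hfin.sdiff).isClosed_biUnion (f := fun v : V.toScheme => ({v} : Set V.toScheme)) fun v hv => ?_) |> fun h => by
      rwa [Set.biUnion_of_singleton] at h
    refine closure_subset_iff_isClosed.1 fun v' hv' => ?_
    have h1 : v ⤳ v' := specializes_iff_mem_closure.2 hv'
    have hv'Z : v' ∈ V.ι ⁻¹' Z := h1.mem_closed (hZc.preimage V.ι.continuous) hv.1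
    have h2 : V.ι v' ⤳ V.ι v := hspec _ hv.1 _ hv'Z (h1.map V.ι.continuous)
    exact V.ι.isOpenEmbedding.injective (h2.antisymm (h1.map V.ι.continuous)).eq
  obtain ⟨O', hO', hOO'⟩ := ι.isEmbedding.isInducing.isOpen_iff.1
    (V.ι.isOpenEmbedding.isOpenMap _ hcl.isOpen_compl)
  refine ⟨I.subschemeι ⁻¹' O', hO'.preimage I.subschemeι.continuous, ?_⟩
  ext d'
  simp only [Set.mem_inter_iff, Set.mem_singleton_iff]
  constructor
  · rintro ⟨h1, h2⟩
    obtain ⟨w', hw'⟩ : I.subschemeι d' ∈ Set.range ι := by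
      rw [Scheme.Hom.range_fiberι]
      simpa [Scheme.Hom.comp_apply] using h2
    have h3 : w' ∈ ι ⁻¹' O' := show ι w' ∈ O' from hw' ▸ h1
    rw [hOO'] at h3
    obtain ⟨v, hv, rfl⟩ := h3
    have hvZ : v ∈ V.ι ⁻¹' Z := show ι (V.ι v) ∈ (I.support : Set X) from hw' ▸ hsup d'
    have hvw : v = ⟨w, hwV⟩ := by_contra fun hne => hv ⟨hvZ, hne⟩
    subst hvw
    exact I.subschemeι.isClosedEmbedding.injective (hw'.symm.trans hw)
  · rintro rfl
    refine ⟨?_, hd⟩
    have : w ∈ ι ⁻¹' O' := by rw [hOO']; exact ⟨⟨w, hwV⟩, fun h => h.2 rfl, rfl⟩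
    show I.subschemeι d' ∈ O'
    rw [← hw]; exact this

end Groth.Agent.RelCurveDiv
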