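import Groth.Agent.RelCurveDiv.Alg
import Groth.Agent.RelCurveDiv.Topology
import Groth.Agent.FlatX.RelCartier
import Groth.Agent.S1348
import Groth.Prelude.Def_Mor2

/-! Relative effective Cartier divisors on a smooth curve family. -/

noncomputable section

set_option linter.style.haveILetI false
set_option linter.unusedSectionVars false

universe u

open CategoryTheory CategoryTheory.Limits AlgebraicGeometry TopologicalSpace IsLocalRing

namespace Groth.Agent.RelCurveDiv

open Groth.Agent FlatX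

variable {X S : Scheme.{u}} (f : X ⟶ S) [SmoothOfRelativeDimension 1 f] (I : X.IdealSheafData)

/-- The stalk of a flat closed subscheme is flat over the stalk of the base. -/
theorem flat_stalk_quotient (hfl : Flat (I.subschemeι ≫ f)) (W : S.affineOpens) (U : X.affineOpens)
    (e : U.1 ≤ f ⁻¹ᵁ W.1) {x : X} (hxU : x ∈ U.1) :
    ((Ideal.Quotient.mk ((I.ideal U).map (X.presheaf.germ U.1 x hxU).hom)).comp (f.stalkMap x).hom).Flat := by
  letI := (f.appLE W.1 U.1 e).hom.toAlgebra
  letI := X.presheaf.algebra_section_stalk ⟨x, hxU⟩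
  haveI := U.2.isLocalization_stalk ⟨x, hxU⟩
  letI : Algebra Γ(S, W.1) (X.presheaf.stalk x) :=
    ((X.presheaf.germ U.1 x hxU).hom.comp (f.appLE W.1 U.1 e).hom).toAlgebra
  haveI : IsScalarTower Γ(S, W.1) Γ(X, U.1) (X.presheaf.stalk x) :=
    IsScalarTower.of_algebraMap_eq fun _ => rfl
  have hq := flat_quot_atPrime (I.ideal U) (U.2.primeIdealOf ⟨x, hxU⟩).asIdeal (X.presheaf.stalk x)
    (RingHom.flat_algebraMap_iff.mp (flat_quotApp f I hfl W U e))
  letI := S.presheaf.algebra_section_stalk ⟨f x, e hxU⟩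
  haveI := W.2.isLocalization_stalk ⟨f x, e hxU⟩
  letI := (f.stalkMap x).hom.toAlgebra
  haveI : IsScalarTower Γ(S, W.1) (S.presheaf.stalk (f x)) (X.presheaf.stalk x) := by
    refine IsScalarTower.of_algebraMap_eq fun w => ?_
    change X.presheaf.germ U.1 x hxU (f.appLE W.1 U.1 e w) = f.stalkMap x (S.presheaf.germ W.1 (f x) (e hxU) w)
    rw [Scheme.Hom.germ_stalkMap_apply, Scheme.Hom.appLE, CommRingCat.comp_apply,
      TopCat.Presheaf.germ_res_apply]
  have : Module.Flat (S.presheaf.stalk (f x))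
      (X.presheaf.stalk x ⧸ (I.ideal U).map (algebraMap Γ(X, U.1) (X.presheaf.stalk x))) :=
    (Module.flat_iff_of_isLocalization (S.presheaf.stalk (f x))
      (W.2.primeIdealOf ⟨f x, e hxU⟩).asIdeal.primeCompl _).mpr hq
  exact this

/-- Two finitely generated ideals agreeing at a prime agree near it. -/
theorem exists_map_away_eq {C : Type u} [CommRing C] {P : Ideal C} [P.IsPrime] (L : Type u) [CommRing L] [Algebra C L]
    [IsLocalization.AtPrime L P] {I J : Ideal C} (hI : I.FG) (hJ : J.FG)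
    (h : I.map (algebraMap C L) = J.map (algebraMap C L)) :
    ∃ r, r ∉ P ∧ ∀ y ∈ I, r * y ∈ J ∧ ∀ y ∈ J, r * y ∈ I := by
  classical
  have key : ∀ {A B : Ideal C}, A.FG → A.map (algebraMap C L) ≤ B.map (algebraMap C L) →
      ∃ r, r ∉ P ∧ ∀ y ∈ A, r * y ∈ B := by
    intro A B hA hAB
    obtain ⟨t, rfl⟩ := hA
    have h1 : ∀ a ∈ t, ∃ r, r ∉ P ∧ r * a ∈ B := fun a ha => by
      obtain ⟨m, hm, hmB⟩ := (IsLocalization.algebraMap_mem_map_algebraMap_iff P.primeCompl L B a).1
        (hAB (Ideal.mem_map_of_mem _ (Submodule.subset_span ha)))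
      exact ⟨m, hm, hmB⟩
    choose r hr hrB using h1
    refine ⟨∏ a : t, r a.1 a.2, fun hm => ?_, fun y hy => ?_⟩
    · obtain ⟨a, -, ha⟩ := ‹P.IsPrime›.prod_mem_iff.1 hm
      exact hr _ _ ha
    · refine Submodule.span_induction (fun a ha => ?_) (by simp) (fun x y _ _ hx hy => by
        rw [mul_add]; exact B.add_mem hx hy) (fun c x _ hx => by
        rw [smul_eq_mul, mul_left_comm]; exact B.mul_mem_left c hx) hy
      rw [← Finset.mul_prod_erase Finset.univ _ (Finset.mem_univ (⟨a, ha⟩ : t)), mul_right_comm]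
      exact B.mul_mem_right _ (hrB a ha)
  obtain ⟨r, hr, hrI⟩ := key hI h.le
  obtain ⟨r', hr', hrJ⟩ := key hJ h.ge
  refine ⟨r * r', fun hm => ((‹P.IsPrime›.mem_or_mem hm).elim hr hr'), fun y hy => ⟨?_, fun z hz => ?_⟩⟩
  · rw [mul_comm r r', mul_assoc]; exact J.mul_mem_left _ (hrI y hy)
  · rw [mul_assoc]; exact I.mul_mem_left _ (hrJ z hz)

/-- A generator at a point gives a generator nearby. -/
theorem exists_locGen_of_stalk (U : X.affineOpens) (hfg : (I.ideal U).FG) {x : X} (hxU : x ∈ U.1)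
    (U' : X.Opens) (hU' : IsAffineOpen U') (hx' : x ∈ U') (h' : Γ(X, U')) (hnzd : h' ∈ nonZeroDivisors Γ(X, U'))
    (hJ : (I.ideal U).map (X.presheaf.germ U.1 x hxU).hom = Ideal.span {X.presheaf.germ U' x hx' h'}) :
    ∃ V : X.affineOpens, x ∈ V.1 ∧ LocGen I V := by
  obtain ⟨g, g', eg, hxg⟩ := exists_basicOpen_le_affine_inter U.2 hU' x ⟨hxU, hx'⟩
  let V : X.affineOpens := X.affineBasicOpen g
  have hVU : V.1 ≤ U' := show X.basicOpen g ≤ U' from eg ▸ X.basicOpen_le g'
  let a' : Γ(X, V.1) := X.presheaf.map (homOfLE hVU).op h'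
  have ha' : a' ∈ nonZeroDivisors Γ(X, V.1) := by
    letI := (X.presheaf.map (homOfLE hVU).op).hom.toAlgebra
    haveI : IsLocalization.Away g' Γ(X, V.1) := hU'.isLocalization_of_eq_basicOpen g' (homOfLE hVU) eg
    exact MeroX.nonZeroDivisors_map (A := Γ(X, U')) (S := Γ(X, V.1)) (Submonoid.powers g') hnzd
  letI := X.presheaf.algebra_section_stalk ⟨x, (show x ∈ V.1 from hxg)⟩
  haveI := V.2.isLocalization_stalk ⟨x, (show x ∈ V.1 from hxg)⟩
  have hIV : (I.ideal U).map (X.presheaf.map (homOfLE (X.basicOpen_le g)).op).hom = I.ideal V :=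
    I.map_ideal_basicOpen U g
  have hfgV : (I.ideal V).FG := hIV ▸ hfg.map _
  have heq : (I.ideal V).map (algebraMap Γ(X, V.1) (X.presheaf.stalk x)) =
      (Ideal.span {a'}).map (algebraMap Γ(X, V.1) (X.presheaf.stalk x)) := by
    rw [← hIV, Ideal.map_span, Set.image_singleton]
    erw [Ideal.map_map]
    refine (Eq.trans ?_ hJ).trans (congrArg (fun b => Ideal.span {b}) ?_)
    · congr 1
      exact RingHom.ext fun w => TopCat.Presheaf.germ_res_apply X.presheaf _ _ _ w
    · exact (TopCat.Presheaf.germ_res_apply X.presheaf _ _ _ h').symm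
  obtain ⟨r, hr, hrI⟩ := exists_map_away_eq (P := (V.2.primeIdealOf ⟨x, hxg⟩).asIdeal) (X.presheaf.stalk x) hfgV (Submodule.fg_span_singleton a') heq
  have hxr : x ∈ X.basicOpen r := by
    rw [Scheme.mem_basicOpen _ _ _ (show x ∈ V.1 from hxg)]
    exact IsLocalization.map_units (X.presheaf.stalk x) (⟨r, hr⟩ : (V.2.primeIdealOf ⟨x, hxg⟩).asIdeal.primeCompl)
  haveI := V.2.isLocalization_basicOpen r
  refine ⟨X.affineBasicOpen r, hxr, X.presheaf.map (homOfLE (X.basicOpen_le r)).op a',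
    MeroX.nonZeroDivisors_map (A := Γ(X, V.1)) (S := Γ(X, X.basicOpen r)) (Submonoid.powers r) ha', ?_⟩
  rw [← I.map_ideal_basicOpen V r]
  have hru : IsUnit (algebraMap Γ(X, V.1) Γ(X, X.basicOpen r) r) :=
    IsLocalization.map_units _ (⟨r, Submonoid.mem_powers r⟩ : Submonoid.powers r)
  refine le_antisymm (Ideal.map_le_iff_le_comap.2 fun y hy => ?_) ((Ideal.span_singleton_le_iff_mem _).2 ?_)
  · obtain ⟨c, hc⟩ := Ideal.mem_span_singleton'.1 (hrI y hy).1
    refine Ideal.mem_comap.2 (Ideal.mem_span_singleton'.2 ⟨hru.unit⁻¹.1 * algebraMap _ _ c, ?_⟩)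
    show _ * algebraMap Γ(X, V.1) Γ(X, X.basicOpen r) a' = algebraMap Γ(X, V.1) Γ(X, X.basicOpen r) y
    rw [mul_assoc, ← map_mul, hc, map_mul, ← mul_assoc, hru.val_inv_mul, one_mul]
  · have h1 : r * a' ∈ I.ideal V :=
      (hrI 0 (zero_mem _)).2 a' (Ideal.mem_span_singleton_self a')
    have h2 := Ideal.mem_map_of_mem (algebraMap Γ(X, V.1) Γ(X, X.basicOpen r)) h1
    rw [map_mul, Ideal.unit_mul_mem_iff_mem _ hru] at h2
    exact h2

/-- The quotient map to a chart of a closed subscheme. -/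
theorem fg_ideal_of_lfp (hfp : LocallyOfFinitePresentation (I.subschemeι ≫ f)) (W : S.affineOpens) (U : X.affineOpens)
    (e : U.1 ≤ f ⁻¹ᵁ W.1) : (I.ideal U).FG := by
  haveI := SmoothOfRelativeDimension.smooth 1 f
  let p := (I.subschemeι ≫ f).appLE W.1 (I.subschemeι ⁻¹ᵁ U.1) (fun _ hy => e hy)
  have h1 : p.hom.FinitePresentation :=
    HasRingHomProperty.appLE @LocallyOfFinitePresentation (I.subschemeι ≫ f) hfp W ⟨_, U.2.preimage I.subschemeι⟩ _
  have h2 : (f.appLE W.1 U.1 e).hom.FinitePresentation :=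
    HasRingHomProperty.appLE @LocallyOfFinitePresentation f inferInstance W U e
  have hp : p = f.appLE W.1 U.1 e ≫ I.subschemeι.app U.1 := by
    rw [Scheme.Hom.app_eq_appLE, Scheme.Hom.appLE_comp_appLE]
  letI := (f.appLE W.1 U.1 e).hom.toAlgebra
  letI := p.hom.toAlgebra
  haveI : Algebra.FinitePresentation Γ(S, W.1) Γ(X, U.1) := h2
  haveI : Algebra.FinitePresentation Γ(S, W.1) Γ(I.subscheme, I.subschemeι ⁻¹ᵁ U.1) := h1
  let φ : Γ(X, U.1) →ₐ[Γ(S, W.1)] Γ(I.subscheme, I.subschemeι ⁻¹ᵁ U.1) :=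
    { (I.subschemeι.app U.1).hom with commutes' := fun r => (congr($(hp) r)).symm }
  have := Algebra.FinitePresentation.ker_fG_of_surjective φ (I.subschemeι_app_surjective U)
  rwa [show RingHom.ker φ.toRingHom = I.ideal U from I.ker_subschemeι_app U] at this

theorem isEffCartier_of_quasiFinite (hqf : LocallyQuasiFinite (I.subschemeι ≫ f))
    (hfl : Flat (I.subschemeι ≫ f)) (hfp : LocallyOfFinitePresentation (I.subschemeι ≫ f)) :
    BlowUp.IsEffCartierIdeal I := by
  intro x
  haveI := SmoothOfRelativeDimension.smooth 1 f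
  obtain ⟨W, hxW⟩ := exists_chart f x
  obtain ⟨U₀, hU₀, hxU, hle⟩ := exists_isAffineOpen_mem_and_subset (X := X) (x := x) (U := f ⁻¹ᵁ W.1) hxW
  let U : X.affineOpens := ⟨U₀, hU₀⟩
  have hfg := fg_ideal_of_lfp f I hfp W U hle
  by_cases hx : x ∈ I.support
  · obtain ⟨h1, h2⟩ := stalkFibre_facts f x
    letI := (f.stalkMap x).hom.toAlgebra
    haveI : IsLocalHom (algebraMap (S.presheaf.stalk (f x)) (X.presheaf.stalk x)) :=
      inferInstanceAs (IsLocalHom (f.stalkMap x).hom)
    set J := (I.ideal U).map (X.presheaf.germ U.1 x hxU).hom with hJdef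
    haveI : Module.Flat (S.presheaf.stalk (f x)) (X.presheaf.stalk x ⧸ J) := flat_stalk_quotient f I hfl W U hle hxU
    haveI : IsDomain (X.presheaf.stalk x ⧸ (maximalIdeal (S.presheaf.stalk (f x))).map
      (algebraMap (S.presheaf.stalk (f x)) (X.presheaf.stalk x))) := h1
    haveI : IsPrincipalIdealRing (X.presheaf.stalk x ⧸ (maximalIdeal (S.presheaf.stalk (f x))).map
      (algebraMap (S.presheaf.stalk (f x)) (X.presheaf.stalk x))) := h2
    obtain ⟨a, hJ, hreg⟩ := exists_eq_span_of_fibre J (hfg.map _) (not_le_fibIdeal f I U hfg hxU hx)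
    have hm : a ∈ maximalIdeal (X.presheaf.stalk x) := by
      have hle' : J ≤ maximalIdeal (X.presheaf.stalk x) := Ideal.map_le_iff_le_comap.2 fun b hb => by
        rw [Ideal.mem_comap, mem_maximalIdeal, mem_nonunits_iff]
        have h3 := (Scheme.IdealSheafData.mem_support_iff_of_mem (U := U) hxU).1 hx
        rw [Scheme.mem_zeroLocus_iff] at h3
        exact fun hu => h3 b hb ((Scheme.mem_basicOpen _ _ _ hxU).2 hu)
      exact hle' (hJ ▸ Ideal.mem_span_singleton_self a)
    obtain ⟨U', hU', hx', h', rfl, hnzd, -, -⟩ := S1348.result f x (Flat.stalkMap f x) a hm hreg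
    exact exists_locGen_of_stalk I U hfg hxU U' hU' hx' h' hnzd hJ
  · refine exists_locGen_of_stalk I U hfg hxU U.1 U.2 hxU 1 (one_mem _) ?_
    rw [map_one, Ideal.span_singleton_one, Ideal.eq_top_iff_one]
    have h3 := mt (Scheme.IdealSheafData.mem_support_iff_of_mem (U := U) hxU).2 hx
    rw [Scheme.mem_zeroLocus_iff] at h3
    push Not at h3
    obtain ⟨b, hb, hxb⟩ := h3
    have hu := (Scheme.mem_basicOpen _ _ _ hxU).1 hxb
    exact (Ideal.eq_top_iff_one _).1 (Ideal.eq_top_of_isUnit_mem _ (Ideal.mem_map_of_mem _ hb) hu)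

theorem quasiFinite_fp_of_isEffCartier (hI : BlowUp.IsEffCartierIdeal I) (hfl : Flat (I.subschemeι ≫ f)) :
    LocallyQuasiFinite (I.subschemeι ≫ f) ∧ LocallyOfFinitePresentation (I.subschemeι ≫ f) := by
  haveI := SmoothOfRelativeDimension.smooth 1 f
  have hfp : LocallyOfFinitePresentation (I.subschemeι ≫ f) := by
    rw [HasRingHomProperty.iff_exists_appLE (P := @LocallyOfFinitePresentation)
      (RingHom.finitePresentation_stableUnderComposition.stableUnderCompositionWithLocalizationAway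
        RingHom.finitePresentation_holdsForLocalizationAway).left]
    intro d
    obtain ⟨W, hxW⟩ := exists_chart f (I.subschemeι d)
    obtain ⟨U, hxU, e, hU⟩ := exists_locGen (O := f ⁻¹ᵁ W.1) hI hxW
    refine ⟨W, ⟨_, U.2.preimage I.subschemeι⟩, hxU, fun _ hy => e hy, ?_⟩
    rw [show (I.subschemeι ≫ f).appLE W.1 (I.subschemeι ⁻¹ᵁ U.1) (fun _ hy => e hy) =
      f.appLE W.1 U.1 e ≫ I.subschemeι.app U.1 by
        rw [Scheme.Hom.app_eq_appLE, Scheme.Hom.appLE_comp_appLE]]
    obtain ⟨a, -, hIa⟩ := hU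
    exact (RingHom.FinitePresentation.of_surjective _ (I.subschemeι_app_surjective U)
      (by rw [I.ker_subschemeι_app U, hIa]; exact Submodule.fg_span_singleton a)).comp
        (HasRingHomProperty.appLE @LocallyOfFinitePresentation f inferInstance W U e)
  refine ⟨?_, hfp⟩
  haveI := hfp
  rw [locallyQuasiFinite_iff_isDiscrete_preimage_singleton]
  refine isDiscrete_of_notMem_fibIdeal f I fun x hx => ?_
  obtain ⟨W, hxW⟩ := exists_chart f x
  obtain ⟨U, hxU, e, a, ha, hIa⟩ := exists_locGen (O := f ⁻¹ᵁ W.1) hI hxW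
  refine ⟨U, hxU, a, hIa ▸ Ideal.mem_span_singleton_self a, ?_⟩
  letI := X.presheaf.algebra_section_stalk ⟨x, hxU⟩
  haveI := U.2.isLocalization_stalk ⟨x, hxU⟩
  letI := (f.stalkMap x).hom.toAlgebra
  haveI : IsLocalHom (algebraMap (S.presheaf.stalk (f x)) (X.presheaf.stalk x)) :=
    inferInstanceAs (IsLocalHom (f.stalkMap x).hom)
  have hfs : Module.Flat (S.presheaf.stalk (f x))
      (X.presheaf.stalk x ⧸ (I.ideal U).map (X.presheaf.germ U.1 x hxU).hom) := flat_stalk_quotient f I hfl W U e hxU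
  have hmap : (I.ideal U).map (X.presheaf.germ U.1 x hxU).hom = Ideal.span {X.presheaf.germ U.1 x hxU a} := by
    rw [hIa, Ideal.map_span, Set.image_singleton]
  rw [hmap] at hfs
  exact notMem_fibre_of_flat_quotient
    (MeroX.nonZeroDivisors_map (A := Γ(X, U.1)) (S := X.presheaf.stalk x) (U.2.primeIdealOf ⟨x, hxU⟩).asIdeal.primeCompl ha)

end Groth.Agent.RelCurveDiv
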