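import Groth.Agent.FibFlat.Stalk
import Mathlib.AlgebraicGeometry.Morphisms.ClosedImmersion
import Mathlib.AlgebraicGeometry.Morphisms.QuasiCompact

/-! The ideal of a closed immersion in the local rings. -/

noncomputable section

set_option linter.style.haveILetI false

universe u

open CategoryTheory AlgebraicGeometry TopologicalSpace IsLocalRing

namespace Groth.Agent.RelCurveDiv

variable {Z Y : Scheme.{u}}

theorem sm_germ (i : Z ⟶ Y) {V : Y.Opens} {d : Y} (hd : d ∈ V) (z : Z) (h : i z = d) (y : Γ(Y, V)) :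
    FibFlat.sm i z d h (Y.presheaf.germ V d hd y) =
      Z.presheaf.germ (i ⁻¹ᵁ V) z (show i z ∈ V from h.symm ▸ hd) (i.app V y) := by
  subst h
  rw [FibFlat.sm_self]
  exact Scheme.Hom.germ_stalkMap_apply i V z hd y

/-- The image of the kernel in the local ring does not depend on the affine open. -/
theorem mem_map_ker_iff (i : Z ⟶ Y) [IsClosedImmersion i] {V : Y.Opens} (hV : IsAffineOpen V) {d : Y} (hd : d ∈ V)
    (t : Y.presheaf.stalk d) :
    t ∈ (RingHom.ker (i.app V).hom).map (Y.presheaf.germ V d hd).hom ↔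
      ∀ (z : Z) (h : i z = d), FibFlat.sm i z d h t = 0 := by
  letI := Y.presheaf.algebra_section_stalk ⟨d, hd⟩
  haveI := hV.isLocalization_stalk ⟨d, hd⟩
  constructor
  · intro ht z h
    refine RingHom.mem_ker.1 ((Ideal.map_le_iff_le_comap (f := (Y.presheaf.germ V d hd).hom)
      (K := RingHom.ker (FibFlat.sm i z d h))).2 (fun y hy => ?_) ht)
    rw [Ideal.mem_comap, RingHom.mem_ker]
    refine (sm_germ i hd z h y).trans ?_
    rw [RingHom.mem_ker] at hy
    exact (congrArg _ hy).trans (map_zero _)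
  · intro ht
    obtain ⟨⟨b, v⟩, hbv⟩ := IsLocalization.surj (hV.primeIdealOf ⟨d, hd⟩).asIdeal.primeCompl t
    refine (IsLocalization.mem_map_algebraMap_iff (hV.primeIdealOf ⟨d, hd⟩).asIdeal.primeCompl
      (Y.presheaf.stalk d)).2 ?_
    by_cases hr : d ∈ Set.range i
    · obtain ⟨z, hz⟩ := hr
      have hzV : z ∈ i ⁻¹ᵁ V := show i z ∈ V from hz.symm ▸ hd
      letI := Z.presheaf.algebra_section_stalk ⟨z, hzV⟩
      haveI := (hV.preimage i).isLocalization_stalk ⟨z, hzV⟩
      have h0 : Z.presheaf.germ (i ⁻¹ᵁ V) z hzV (i.app V b) = 0 := by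
        rw [← sm_germ i hd z hz b, show Y.presheaf.germ V d hd b = algebraMap _ (Y.presheaf.stalk d) b from rfl,
          ← hbv, map_mul, ht z hz, zero_mul]
      obtain ⟨⟨w, hw⟩, hw0⟩ := (IsLocalization.map_eq_zero_iff
        ((hV.preimage i).primeIdealOf ⟨z, hzV⟩).asIdeal.primeCompl _ (i.app V b)).1 h0
      obtain ⟨w, rfl⟩ := Scheme.Hom.app_surjective i V hV w
      have hwd : w ∈ (hV.primeIdealOf ⟨d, hd⟩).asIdeal.primeCompl := fun hm => hw (by
        have h1 := (IsLocalization.AtPrime.to_map_mem_maximal_iff (Y.presheaf.stalk d) _ w).2 hm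
        refine (IsLocalization.AtPrime.to_map_mem_maximal_iff (Z.presheaf.stalk z)
          ((hV.preimage i).primeIdealOf ⟨z, hzV⟩).asIdeal (i.app V w)).1 ?_
        show Z.presheaf.germ (i ⁻¹ᵁ V) z hzV (i.app V w) ∈ maximalIdeal _
        rw [← sm_germ i hd z hz w, mem_maximalIdeal, mem_nonunits_iff]
        intro hu
        subst hz
        rw [FibFlat.sm_self] at hu
        exact h1 (IsLocalHom.map_nonunit (f := (i.stalkMap z).hom) _ hu))
      refine ⟨(⟨w * b, RingHom.mem_ker.2 ((map_mul _ _ _).trans hw0)⟩,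
        ⟨w, hwd⟩ * v), ?_⟩
      show t * algebraMap _ _ (w * (v : Γ(Y, V))) = algebraMap _ _ (w * b)
      rw [map_mul, map_mul, mul_left_comm, hbv]
    · -- a section not vanishing at `d` and vanishing on `Z`
      obtain ⟨r, hrO, hdr⟩ := hV.exists_basicOpen_le (V := ⟨(Set.range i)ᶜ, i.isClosedEmbedding.isClosed_range.isOpen_compl⟩)
        ⟨d, hr⟩ hd
      have hbot : Z.basicOpen (i.app V r) = ⊥ := by
        rw [← Scheme.preimage_basicOpen]
        exact Opens.ext (Set.eq_empty_iff_forall_notMem.2 fun z hz => hrO hz ⟨z, rfl⟩)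
      obtain ⟨n, hn⟩ := (Scheme.isNilpotent_iff_basicOpen_eq_bot_of_isCompact (hV.preimage i).isCompact _).2 hbot
      have hrd : r ∈ (hV.primeIdealOf ⟨d, hd⟩).asIdeal.primeCompl := fun hm =>
        (IsLocalization.AtPrime.to_map_mem_maximal_iff (Y.presheaf.stalk d) _ r).2 hm
          ((Scheme.mem_basicOpen _ _ _ hd).1 hdr)
      refine ⟨(⟨r ^ n * b, RingHom.mem_ker.2 (by rw [map_mul, map_pow, hn, zero_mul])⟩, ⟨r, hrd⟩ ^ n * v), ?_⟩
      show t * algebraMap _ _ (r ^ n * (v : Γ(Y, V))) = algebraMap _ _ (r ^ n * b)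
      rw [map_mul, map_mul, mul_left_comm, hbv]

theorem map_ker_eq (i : Z ⟶ Y) [IsClosedImmersion i] {V U : Y.Opens} (hV : IsAffineOpen V) (hU : IsAffineOpen U)
    {d : Y} (hdV : d ∈ V) (hdU : d ∈ U) :
    (RingHom.ker (i.app V).hom).map (Y.presheaf.germ V d hdV).hom =
      (RingHom.ker (i.app U).hom).map (Y.presheaf.germ U d hdU).hom :=
  Ideal.ext fun t => (mem_map_ker_iff i hV hdV t).trans (mem_map_ker_iff i hU hdU t).symm

theorem ker_app_congr {W : Scheme.{u}} {i j : Z ⟶ W} (h : i = j) (U : W.Opens) :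
    RingHom.ker (i.app U).hom = RingHom.ker (j.app U).hom := by
  subst h; rfl

end Groth.Agent.RelCurveDiv
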