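import Mathlib

/-! Ranks of the quotients by two ideals which are locally principal and mutual annihilators. -/

universe u

open IsLocalRing

set_option linter.style.haveILetI false

namespace Groth.Agent.RelCurveDiv

variable {R B : Type u} [CommRing R] [CommRing B] [Algebra R B]

/-- Near each prime of `B`, the ideal `K` is generated by one element with annihilator in `J`. -/
def PairAt (K J : Ideal B) (q : Ideal B) : Prop :=
  ∃ a ∈ K, (∀ y ∈ K, ∃ u ∉ q, ∃ c : B, u * y = c * a) ∧ ∀ n : B, n * a = 0 → ∃ u ∉ q, u * n ∈ J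

theorem exists_base_notMem [Algebra.IsIntegral R B] (p : Ideal R) [p.IsPrime] (A : Ideal B)
    (h : ∀ q ∈ p.primesOver B, ¬ A ≤ q) : ∃ r, r ∉ p ∧ algebraMap R B r ∈ A := by
  by_contra! hc
  obtain ⟨Q, hAQ, hQ, hQp⟩ := Ideal.exists_ideal_over_prime_of_isIntegral p A
    (fun r hr => by_contra fun hrp => hc r hrp hr)
  exact h Q ⟨hQ, ⟨hQp.symm⟩⟩ hAQ

/-- One element works at all primes over a given prime. -/
theorem exists_common (p : Ideal R) [p.IsPrime] (K J : Ideal B) (hfin : (p.primesOver B).Finite)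
    [Algebra.IsIntegral R B] (h : ∀ q : Ideal B, q.IsPrime → PairAt K J q) :
    ∃ a ∈ K, ∀ q ∈ p.primesOver B,
      (∀ y ∈ K, ∃ u ∉ q, ∃ c : B, u * y = c * a) ∧ ∀ n : B, n * a = 0 → ∃ u ∉ q, u * n ∈ J := by
  classical
  haveI := hfin.to_subtype
  letI := Fintype.ofFinite (p.primesOver B)
  have h' : ∀ q : p.primesOver B, PairAt K J q.1 := fun q => h q.1 q.2.1
  choose a ha hy hn using h'
  have he : ∀ q : p.primesOver B, ∃ e : B, e ∉ q.1 ∧ ∀ q' : p.primesOver B, q' ≠ q → e ∈ q'.1 := by
    intro q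
    haveI := q.2.1
    have hne : ∀ q' : p.primesOver B, q' ≠ q → ∃ e ∈ q'.1, e ∉ q.1 := fun q' hq' => by
      by_contra! hle
      refine hq' (Subtype.ext ?_)
      haveI := q'.2.1
      refine le_antisymm hle (le_of_eq ?_)
      by_contra hne'
      have hlt : q'.1 < q.1 := lt_of_le_of_ne hle (Ne.symm hne')
      obtain ⟨c, hc, hc'⟩ := SetLike.exists_of_lt hlt
      exact (Ideal.comap_lt_comap_of_integral_mem_sdiff hlt.le ⟨hc, hc'⟩ (Algebra.IsIntegral.isIntegral c)).ne
        (q'.2.2.over.symm.trans q.2.2.over)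
    choose e he he' using hne
    refine ⟨∏ q' : {q' : p.primesOver B // q' ≠ q}, e q'.1 q'.2, fun hm => ?_, fun q' hq' => ?_⟩
    · obtain ⟨q', -, hq'⟩ := q.2.1.prod_mem_iff.1 hm
      exact he' _ _ hq'
    · exact Ideal.prod_mem _ (Finset.mem_univ (⟨q', hq'⟩ : {q' : p.primesOver B // q' ≠ q})) (he q' hq')
  choose e he he' using he
  refine ⟨∑ q, e q * a q, Ideal.sum_mem _ fun q _ => K.mul_mem_left _ (ha q), fun q hq => ?_⟩
  haveI := hq.1
  let Q : p.primesOver B := ⟨q, hq⟩
  have hc : ∀ q', ∃ u ∉ q, ∃ c : B, u * (e q' * a q') = c * a Q ∧ (q' ≠ Q → c ∈ q) ∧ (q' = Q → c ∉ q) := by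
    intro q'
    by_cases hq' : q' = Q
    · subst hq'
      exact ⟨1, q.ne_top_iff_one.1 hq.1.ne_top, e Q, one_mul _, fun h => absurd rfl h, fun _ => he Q⟩
    · obtain ⟨u, hu, c, hc⟩ := hy Q (a q') (ha q')
      exact ⟨u, hu, e q' * c, by rw [mul_left_comm, hc, mul_assoc],
        fun _ => q.mul_mem_right _ (he' q' Q (Ne.symm hq')), fun h => absurd h hq'⟩
  choose u hu c hc hc1 hc2 using hc
  have hsum : (∏ q', u q') * ∑ q', e q' * a q' = (∑ q', (∏ r ∈ Finset.univ.erase q', u r) * c q') * a Q := by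
    rw [Finset.mul_sum, Finset.sum_mul]
    refine Finset.sum_congr rfl fun q' _ => ?_
    rw [mul_assoc, ← hc q', ← mul_assoc _ (u q'), mul_comm (∏ r ∈ Finset.univ.erase q', u r) (u q'),
      Finset.mul_prod_erase Finset.univ u (Finset.mem_univ q')]
  have hC : (∑ q', (∏ r ∈ Finset.univ.erase q', u r) * c q') ∉ q := by
    rw [← Finset.add_sum_erase _ _ (Finset.mem_univ Q)]
    intro hm
    have h1 : (∑ q' ∈ Finset.univ.erase Q, (∏ r ∈ Finset.univ.erase q', u r) * c q') ∈ q :=
      Ideal.sum_mem _ fun q' hq' => q.mul_mem_left _ (hc1 q' (Finset.ne_of_mem_erase hq'))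
    rcases hq.1.mem_or_mem ((Ideal.add_mem_iff_left q h1).1 hm) with h2 | h2
    · obtain ⟨r, -, hr⟩ := hq.1.prod_mem_iff.1 h2
      exact hu r hr
    · exact hc2 Q rfl h2
  refine ⟨fun y hy' => ?_, fun n hn' => ?_⟩
  · obtain ⟨v, hv, d, hd⟩ := hy Q y hy'
    refine ⟨(∑ q', (∏ r ∈ Finset.univ.erase q', u r) * c q') * v,
      fun h => (hq.1.mem_or_mem h).elim hC hv, d * ∏ q', u q', ?_⟩
    rw [mul_assoc, hd, mul_assoc d, hsum]
    ring
  · obtain ⟨v, hv, hvJ⟩ := hn Q (n * ∑ q', (∏ r ∈ Finset.univ.erase q', u r) * c q') (by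
      rw [mul_assoc, ← hsum, mul_left_comm, hn', mul_zero])
    exact ⟨v * ∑ q', (∏ r ∈ Finset.univ.erase q', u r) * c q', fun h => (hq.1.mem_or_mem h).elim hv hC,
      by rwa [mul_assoc, mul_comm (∑ q', _) n]⟩

theorem mul_eq_bot_of_local (K J : Ideal B)
    (h : ∀ q : Ideal B, q.IsPrime → ∀ y ∈ K, ∀ j ∈ J, ∃ u ∉ q, u * (y * j) = 0) {y j : B} (hy : y ∈ K) (hj : j ∈ J) :
    y * j = 0 := by
  by_contra hne
  obtain ⟨q, hq, hle⟩ := Ideal.exists_le_maximal (LinearMap.ker (LinearMap.toSpanSingleton B B (y * j)))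
    (fun htop => hne (by simpa using LinearMap.ker_eq_top.1 htop |> fun h => LinearMap.congr_fun h 1))
  obtain ⟨u, hu, hu0⟩ := h q hq.isPrime y hy j hj
  exact hu (hle (by simpa using hu0))

/-- The rank is additive. -/
theorem rankAtStalk_quotient_add [Module.Finite R B] [Module.Flat R B] [Module.FinitePresentation R B]
    (K J : Ideal B) [Module.Flat R (B ⧸ K)] [Module.FinitePresentation R (B ⧸ K)]
    (h : ∀ q : Ideal B, q.IsPrime → PairAt K J q) (hKJ : ∀ y ∈ K, ∀ j ∈ J, y * j = 0) (p : PrimeSpectrum R) :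
    Module.rankAtStalk (R := R) B p = Module.rankAtStalk (R := R) (B ⧸ K) p + Module.rankAtStalk (R := R) (B ⧸ J) p := by
  haveI : Module.Projective R (B ⧸ K) := Module.Flat.projective_of_finitePresentation
  let π : B →ₗ[R] (B ⧸ K) := (Ideal.Quotient.mkₐ R K).toLinearMap
  obtain ⟨σ, hσ⟩ := Module.projective_lifting_property π LinearMap.id Ideal.Quotient.mk_surjective
  have hker : LinearMap.ker π = K.restrictScalars R := by
    ext y; exact Ideal.Quotient.eq_zero_iff_mem
  let e : B ≃ₗ[R] (LinearMap.ker π) × (B ⧸ K) :=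
    (Function.Exact.splitSurjectiveEquiv (LinearMap.exact_subtype_ker_map π) Subtype.val_injective ⟨σ, hσ⟩).1
  haveI : Module.Flat R ((LinearMap.ker π) × (B ⧸ K)) := Module.Flat.of_linearEquiv e.symm
  haveI : Module.Flat R (LinearMap.ker π) := Module.Flat.of_retract (LinearMap.inl R _ (B ⧸ K)) (LinearMap.fst R _ _) (by ext; simp)
  haveI : Module.Finite R (LinearMap.ker π) := Module.Finite.of_surjective ((LinearMap.fst R _ (B ⧸ K)) ∘ₗ e.toLinearMap)
    (fun z => ⟨e.symm (z, 0), by simp⟩)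
  rw [Module.rankAtStalk_eq_of_equiv e, Module.rankAtStalk_prod, Pi.add_apply, add_comm]
  congr 1
  obtain ⟨a, ha, hq⟩ := exists_common p.asIdeal K J (Algebra.QuasiFinite.finite_primesOver _) h
  let l : (B ⧸ J) →ₗ[R] LinearMap.ker π :=
    (Submodule.liftQ (J.restrictScalars R) (((LinearMap.mulRight R a)).codRestrict (LinearMap.ker π)
      fun b => hker ▸ K.mul_mem_left b ha) fun j hj => Subtype.ext (by
        show j * a = 0
        rw [mul_comm]; exact hKJ a ha j hj)) ∘ₗ
      (Submodule.Quotient.restrictScalarsEquiv R J).symm.toLinearMap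
  let lp := LocalizedModule.map p.asIdeal.primeCompl l
  have hbij : Function.Bijective lp := by
    refine ⟨(injective_iff_map_eq_zero _).2 fun z hz => ?_, fun z => ?_⟩
    · induction z using LocalizedModule.induction_on with
      | h m s =>
        obtain ⟨n, rfl⟩ := Ideal.Quotient.mk_surjective m
        rw [LocalizedModule.map_mk, ← LocalizedModule.zero_mk 1, LocalizedModule.mk_eq] at hz
        obtain ⟨⟨r, hr⟩, hz⟩ := hz
        simp only [one_smul, smul_zero, Submonoid.mk_smul] at hz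
        have hr0 := hz
        have h0 : algebraMap R B r * n * a = 0 := by
          have := congrArg Subtype.val hr0
          rw [mul_assoc, ← Algebra.smul_def]
          exact this
        obtain ⟨r', hr', hr'J⟩ := exists_base_notMem p.asIdeal (J.colon (Set.singleton (algebraMap R B r * n)))
          (fun q hq' hle => by
            obtain ⟨u, hu, huJ⟩ := (hq q hq').2 _ h0
            exact hu (hle (Submodule.mem_colon_singleton.2 huJ)))
        rw [← LocalizedModule.zero_mk 1, LocalizedModule.mk_eq]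
        refine ⟨⟨r' * r, p.asIdeal.primeCompl.mul_mem hr' hr⟩, ?_⟩
        simp only [one_smul, smul_zero, Submonoid.mk_smul]
        show Ideal.Quotient.mk J ((r' * r) • n) = 0
        rw [Ideal.Quotient.eq_zero_iff_mem, mul_smul, Algebra.smul_def, Algebra.smul_def]
        exact Submodule.mem_colon_singleton.1 hr'J
    · induction z using LocalizedModule.induction_on with
      | h m s =>
        obtain ⟨y, hy⟩ := m
        obtain ⟨r, hr, hrA⟩ := exists_base_notMem p.asIdeal ((Ideal.span {a}).colon (Set.singleton y))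
          (fun q hq' hle => by
            obtain ⟨u, hu, c, hc⟩ := (hq q hq').1 y (hker ▸ hy : y ∈ K.restrictScalars R)
            exact hu (hle (Submodule.mem_colon_singleton.2 (Ideal.mem_span_singleton'.2 ⟨c, hc.symm⟩))))
        obtain ⟨c, hc⟩ := Ideal.mem_span_singleton'.1 (Submodule.mem_colon_singleton.1 hrA)
        refine ⟨LocalizedModule.mk (Ideal.Quotient.mk J c) (⟨r, hr⟩ * s), ?_⟩
        rw [LocalizedModule.map_mk, LocalizedModule.mk_eq]
        refine ⟨1, ?_⟩
        rw [one_smul, one_smul]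
        refine Subtype.ext ?_
        show (s : R) • (c * a) = (r * s : R) • y
        rw [mul_comm r, mul_smul, Algebra.smul_def r y]
        exact congrArg ((s : R) • ·) hc
  show Module.finrank _ _ = Module.finrank _ _
  exact (LinearEquiv.ofBijective lp hbij).finrank_eq.symm

end Groth.Agent.RelCurveDiv
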