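import Groth.Agent.RelCurveDiv.Main
import Groth.Agent.RelCurveDiv.Rank
import Groth.Agent.RelCurveDiv.KerGerm
import Groth.Agent.DescLib.SepSurj
import Groth.Agent.H23.CoverPush

/-! The sum of two relative divisors, finite over the base. -/

noncomputable section

set_option linter.style.haveILetI false

universe u

open CategoryTheory CategoryTheory.Limits AlgebraicGeometry TopologicalSpace IsLocalRing

namespace Groth.Agent.RelCurveDiv

open Groth.Agent FlatX

variable {X S : Scheme.{u}}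

theorem mul_le_left (I J : X.IdealSheafData) : I * J ≤ I := fun U => by
  show I.ideal U * J.ideal U ≤ I.ideal U
  exact (Ideal.mul_le_left (I := I.ideal U) (J := J.ideal U))

theorem mul_le_right (I J : X.IdealSheafData) : I * J ≤ J := fun U => by
  show I.ideal U * J.ideal U ≤ J.ideal U
  exact (Ideal.mul_le_right (I := I.ideal U) (J := J.ideal U))

/-- The inclusion of a component. -/
abbrev incl {I K : X.IdealSheafData} (h : I ≤ K) : K.subscheme ⟶ I.subscheme :=
  Scheme.IdealSheafData.inclusion h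

instance isClosedImmersion_incl {I K : X.IdealSheafData} (h : I ≤ K) : IsClosedImmersion (incl h) := by
  haveI : IsClosedImmersion (incl h ≫ I.subschemeι) := by
    rw [Scheme.IdealSheafData.inclusion_subschemeι]; infer_instance
  exact IsClosedImmersion.of_comp _ I.subschemeι

/-- The sum of two subschemes which are proper over the base is proper over the base. -/
theorem isProper_mul (f : X ⟶ S) [LocallyOfFiniteType f] (I J : X.IdealSheafData) [IsProper (I.subschemeι ≫ f)]
    [IsProper (J.subschemeι ≫ f)] : IsProper ((I * J).subschemeι ≫ f) := by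
  let p := (I * J).subschemeι ≫ f
  let k := coprod.desc (incl (mul_le_left I J)) (incl (mul_le_right I J))
  haveI : IsFinite k := inferInstanceAs (IsFinite (coprod.desc (incl (mul_le_left I J)) (incl (mul_le_right I J))))
  haveI : Surjective k := ⟨fun y => by
    have hy : (I * J).subschemeι y ∈ (I.support : Set X) ∪ J.support := by
      have h := Set.mem_range_self (f := (I * J).subschemeι) y
      rw [Scheme.IdealSheafData.range_subschemeι, Scheme.IdealSheafData.support_mul] at h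
      exact h
    rcases hy with hy | hy
    · rw [← Scheme.IdealSheafData.range_subschemeι] at hy
      obtain ⟨z, hz⟩ := hy
      refine ⟨coprodMk _ _ (.inl z), (I * J).subschemeι.isClosedEmbedding.injective ?_⟩
      rw [coprodMk_inl, ← Scheme.Hom.comp_apply _ k, coprod.inl_desc, ← Scheme.Hom.comp_apply,
        Scheme.IdealSheafData.inclusion_subschemeι, hz]
    · rw [← Scheme.IdealSheafData.range_subschemeι] at hy
      obtain ⟨z, hz⟩ := hy
      refine ⟨coprodMk _ _ (.inr z), (I * J).subschemeι.isClosedEmbedding.injective ?_⟩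
      rw [coprodMk_inr, ← Scheme.Hom.comp_apply _ k, coprod.inr_desc, ← Scheme.Hom.comp_apply,
        Scheme.IdealSheafData.inclusion_subschemeι, hz]⟩
  haveI : IsProper (k ≫ p) := by
    have h : k ≫ p = coprod.map (I.subschemeι ≫ f) (J.subschemeι ≫ f) ≫ coprod.desc (𝟙 S) (𝟙 S) := by
      ext <;> simp [k, p, incl]
    rw [h]
    exact MorphismProperty.comp_mem @IsProper _ _
      (IsZariskiLocalAtTarget.coprodMap (P := @IsProper) _ _ inferInstance inferInstance) inferInstance
  haveI : IsSeparated p := DescLib.isSeparated_of_comp_surjective k p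
  haveI : UniversallyClosed p := UniversallyClosed.of_comp_surjective k p
  exact { }

variable (f : X ⟶ S) [SmoothOfRelativeDimension 1 f] {I J : X.IdealSheafData}

theorem isFinLocFree_mul (hI : Mor2.IsFinLocFree (I.subschemeι ≫ f)) (hJ : Mor2.IsFinLocFree (J.subschemeι ≫ f)) :
    BlowUp.IsEffCartierIdeal I ∧ BlowUp.IsEffCartierIdeal J ∧ Mor2.IsFinLocFree ((I * J).subschemeι ≫ f) := by
  obtain ⟨hIf, hIl, hIp⟩ := hI
  obtain ⟨hJf, hJl, hJp⟩ := hJ
  haveI := hIf
  haveI := hJf
  haveI := SmoothOfRelativeDimension.smooth 1 f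
  have hIc := isEffCartier_of_quasiFinite f I inferInstance hIl hIp
  have hJc := isEffCartier_of_quasiFinite f J inferInstance hJl hJp
  obtain ⟨hc, hl⟩ := FlatX.flat_mul f hIc hJc hIl hJl
  obtain ⟨hqf, hp⟩ := quasiFinite_fp_of_isEffCartier f (I * J) hc hl
  haveI := hqf
  haveI := isProper_mul f I J
  exact ⟨hIc, hJc, IsFinite.of_isProper_of_locallyQuasiFinite _, hl, hp⟩

set_option maxHeartbeats 1000000 in
theorem finrank_mul (hI : Mor2.IsFinLocFree (I.subschemeι ≫ f)) (hJ : Mor2.IsFinLocFree (J.subschemeι ≫ f)) (s : S) :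
    ((I * J).subschemeι ≫ f).finrank s = (I.subschemeι ≫ f).finrank s + (J.subschemeι ≫ f).finrank s := by
  obtain ⟨hIc, hJc, hP⟩ := isFinLocFree_mul f hI hJ
  obtain ⟨hPf, hPl, hPp⟩ := hP
  obtain ⟨hIf, hIl, hIp⟩ := hI
  obtain ⟨hJf, hJl, hJp⟩ := hJ
  haveI := hPf
  haveI := hPl
  haveI := hPp
  let p := (I * J).subschemeι ≫ f
  let i₁ := incl (mul_le_left I J)
  let i₂ := incl (mul_le_right I J)
  have e₁ : i₁ ≫ p = I.subschemeι ≫ f := Scheme.IdealSheafData.inclusion_subschemeι_assoc _ _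
  have e₂ : i₂ ≫ p = J.subschemeι ≫ f := Scheme.IdealSheafData.inclusion_subschemeι_assoc _ _
  haveI : IsFinite (i₁ ≫ p) := e₁ ▸ hIf
  haveI : Flat (i₁ ≫ p) := e₁ ▸ hIl
  haveI : LocallyOfFinitePresentation (i₁ ≫ p) := e₁ ▸ hIp
  haveI : IsFinite (i₂ ≫ p) := e₂ ▸ hJf
  haveI : Flat (i₂ ≫ p) := e₂ ▸ hJl
  rw [← e₁, ← e₂]
  obtain ⟨W, hW, hsW, -⟩ := exists_isAffineOpen_mem_and_subset (X := S) (x := s) (U := ⊤) trivial
  show p.finrank s = _
  rw [H23.CoverPush.finrank_eq p hW hsW, H23.CoverPush.finrank_eq (i₁ ≫ p) hW hsW,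
    H23.CoverPush.finrank_eq (i₂ ≫ p) hW hsW]
  let V : (I * J).subscheme.Opens := p ⁻¹ᵁ W
  have hV : IsAffineOpen V := hW.preimage p
  let ρ₁ := (i₁.app V).hom
  let ρ₂ := (i₂.app V).hom
  letI := (p.app W).hom.toAlgebra
  letI := H23.CoverPush.alg (i₁ ≫ p) W
  letI := H23.CoverPush.alg (i₂ ≫ p) W
  let K := RingHom.ker ρ₁
  let L := RingHom.ker ρ₂
  let r₁ : Γ((I * J).subscheme, V) →ₐ[Γ(S, W)] Γ(I.subscheme, (i₁ ≫ p) ⁻¹ᵁ W) := { ρ₁ with commutes' := fun _ => rfl }
  let r₂ : Γ((I * J).subscheme, V) →ₐ[Γ(S, W)] Γ(J.subscheme, (i₂ ≫ p) ⁻¹ᵁ W) := { ρ₂ with commutes' := fun _ => rfl }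
  let e1 : (Γ((I * J).subscheme, V) ⧸ K) ≃ₐ[Γ(S, W)] Γ(I.subscheme, (i₁ ≫ p) ⁻¹ᵁ W) :=
    Ideal.quotientKerAlgEquivOfSurjective (f := r₁) (Scheme.Hom.app_surjective i₁ V hV)
  let e2 : (Γ((I * J).subscheme, V) ⧸ L) ≃ₐ[Γ(S, W)] Γ(J.subscheme, (i₂ ≫ p) ⁻¹ᵁ W) :=
    Ideal.quotientKerAlgEquivOfSurjective (f := r₂) (Scheme.Hom.app_surjective i₂ V hV)
  refine Eq.trans ?_ (congrArg₂ (· + ·)
    (congrFun (Module.rankAtStalk_eq_of_equiv e1.toLinearEquiv) (hW.primeIdealOf ⟨s, hsW⟩))
    (congrFun (Module.rankAtStalk_eq_of_equiv e2.toLinearEquiv) (hW.primeIdealOf ⟨s, hsW⟩)))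
  haveI : Module.Finite Γ(S, W) Γ((I * J).subscheme, V) := IsFinite.finite_app p W hW
  haveI : Module.Flat Γ(S, W) Γ((I * J).subscheme, V) := by
    have h := p.flat_appLE hW hV le_rfl
    rwa [← Scheme.Hom.app_eq_appLE] at h
  haveI : Algebra.FinitePresentation Γ(S, W) Γ((I * J).subscheme, V) := by
    have h := HasRingHomProperty.appLE @LocallyOfFinitePresentation p inferInstance ⟨W, hW⟩ ⟨V, hV⟩ le_rfl
    rwa [← Scheme.Hom.app_eq_appLE] at h
  haveI : Module.FinitePresentation Γ(S, W) Γ((I * J).subscheme, V) :=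
    Module.FinitePresentation.of_finite_of_finitePresentation _ _
  haveI : Module.Finite Γ(S, W) Γ(I.subscheme, (i₁ ≫ p) ⁻¹ᵁ W) := IsFinite.finite_app (i₁ ≫ p) W hW
  haveI : Module.Flat Γ(S, W) Γ(I.subscheme, (i₁ ≫ p) ⁻¹ᵁ W) := by
    have h := (i₁ ≫ p).flat_appLE hW (hW.preimage (i₁ ≫ p)) le_rfl
    rwa [← Scheme.Hom.app_eq_appLE] at h
  haveI : Algebra.FinitePresentation Γ(S, W) Γ(I.subscheme, (i₁ ≫ p) ⁻¹ᵁ W) := by
    have h := HasRingHomProperty.appLE @LocallyOfFinitePresentation (i₁ ≫ p) inferInstance ⟨W, hW⟩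
      ⟨_, hW.preimage (i₁ ≫ p)⟩ le_rfl
    rwa [← Scheme.Hom.app_eq_appLE] at h
  haveI : Module.FinitePresentation Γ(S, W) Γ(I.subscheme, (i₁ ≫ p) ⁻¹ᵁ W) :=
    Module.FinitePresentation.of_finite_of_finitePresentation _ _
  haveI : Module.Flat Γ(S, W) (Γ((I * J).subscheme, V) ⧸ K) := Module.Flat.of_linearEquiv e1.toLinearEquiv
  haveI : Module.FinitePresentation Γ(S, W) (Γ((I * J).subscheme, V) ⧸ K) :=
    Module.FinitePresentation.of_equiv e1.symm.toLinearEquiv
  have hst : ∀ q : Ideal Γ((I * J).subscheme, V), q.IsPrime →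
      PairAt K L q ∧ ∀ y ∈ K, ∀ j ∈ L, ∃ u ∉ q, u * (y * j) = 0 := by
    intro q hq
    let d := hV.fromSpec ⟨q, hq⟩
    have hd : d ∈ V := by rw [← SetLike.mem_coe, ← hV.range_fromSpec]; exact ⟨_, rfl⟩
    have hqd : hV.primeIdealOf ⟨d, hd⟩ = ⟨q, hq⟩ :=
      hV.fromSpec.isOpenEmbedding.injective (hV.fromSpec_primeIdealOf _)
    letI := (I * J).subscheme.presheaf.algebra_section_stalk ⟨d, hd⟩
    haveI hloc : IsLocalization.AtPrime ((I * J).subscheme.presheaf.stalk d) q := by
      have := hV.isLocalization_stalk ⟨d, hd⟩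
      rwa [hqd] at this
    let x := (I * J).subschemeι d
    obtain ⟨U, hxU, -, ⟨a, ha, hIa⟩, ⟨b, hb, hJb⟩⟩ := exists_locGen₂ (O := ⊤) hIc hJc (x := x) trivial
    let U' := (I * J).subschemeι ⁻¹ᵁ U.1
    have hU' : IsAffineOpen U' := U.2.preimage _
    let κ := ((I * J).subschemeι.app U.1).hom
    have hκ : Function.Surjective κ := (I * J).subschemeι_app_surjective U
    have hκk : RingHom.ker κ = Ideal.span {a * b} := by
      refine ((I * J).ker_subschemeι_app U).trans ?_
      rw [Scheme.IdealSheafData.ideal_mul, Pi.mul_apply, hIa, hJb, Ideal.span_singleton_mul_span_singleton]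
    have hker : ∀ {M : X.IdealSheafData} (h : I * J ≤ M) (c : Γ(X, U.1)), M.ideal U = Ideal.span {c} →
        RingHom.ker ((incl h).app U').hom = Ideal.span {κ c} := by
      intro M h c hc
      have h1 : RingHom.ker (((incl h).app U').hom.comp κ) = Ideal.span {c} := by
        refine Eq.trans ?_ ((M.ker_subschemeι_app U).trans hc)
        rw [← ker_app_congr (Scheme.IdealSheafData.inclusion_subschemeι h) U.1, Scheme.Hom.comp_app]
        rfl
      rw [← RingHom.comap_ker] at h1
      rw [← Ideal.map_comap_of_surjective κ hκ (RingHom.ker ((incl h).app U').hom), h1, Ideal.map_span,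
        Set.image_singleton]
    set α := (I * J).subscheme.presheaf.germ U' d hxU (κ a) with hα
    set β := (I * J).subscheme.presheaf.germ U' d hxU (κ b) with hβ
    have hKm : K.map (algebraMap _ ((I * J).subscheme.presheaf.stalk d)) = Ideal.span {α} := by
      refine (map_ker_eq i₁ hV hU' hd hxU).trans ?_
      rw [hker _ a hIa, Ideal.map_span, Set.image_singleton]
    have hLm : L.map (algebraMap _ ((I * J).subscheme.presheaf.stalk d)) = Ideal.span {β} := by
      refine (map_ker_eq i₂ hV hU' hd hxU).trans ?_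
      rw [hker _ b hJb, Ideal.map_span, Set.image_singleton]
    have hαβ : α * β = 0 := by
      rw [hα, hβ, ← map_mul, ← map_mul, show κ (a * b) = 0 from
        RingHom.mem_ker.1 (hκk.ge (Ideal.mem_span_singleton_self _)), map_zero]
    have hann : ∀ t, t * α = 0 → t ∈ Ideal.span {β} := by
      intro t ht
      letI := (I * J).subscheme.presheaf.algebra_section_stalk ⟨d, (show d ∈ U' from hxU)⟩
      haveI := hU'.isLocalization_stalk ⟨d, hxU⟩
      obtain ⟨⟨c, w⟩, hcw⟩ := IsLocalization.surj (hU'.primeIdealOf ⟨d, hxU⟩).asIdeal.primeCompl t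
      have h0 : (I * J).subscheme.presheaf.germ U' d hxU (c * κ a) = 0 := by
        rw [map_mul, show (I * J).subscheme.presheaf.germ U' d hxU c =
          algebraMap Γ((I * J).subscheme, U') _ c from rfl, ← hcw, mul_right_comm, ← hα, ht, zero_mul]
      obtain ⟨w', hw'⟩ := (IsLocalization.map_eq_zero_iff (hU'.primeIdealOf ⟨d, hxU⟩).asIdeal.primeCompl
        ((I * J).subscheme.presheaf.stalk d) (c * κ a)).1 h0
      obtain ⟨c', rfl⟩ := hκ c
      obtain ⟨v, hv⟩ := hκ w'.1
      obtain ⟨g, hg⟩ := Ideal.mem_span_singleton'.1 (hκk.le (RingHom.mem_ker.2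
        (show κ (v * c' * a) = 0 by rw [map_mul, map_mul, hv, mul_assoc]; exact hw')))
      have hvc : v * c' = g * b :=
        mul_cancel_right_mem_nonZeroDivisors ha |>.1 (by rw [← hg]; ring)
      have h1 : (I * J).subscheme.presheaf.germ U' d hxU (κ (v * c')) ∈ Ideal.span {β} := by
        rw [hvc, map_mul κ, map_mul]
        exact Ideal.mul_mem_left _ _ (Ideal.mem_span_singleton_self _)
      rw [map_mul κ, map_mul, hv, show (I * J).subscheme.presheaf.germ U' d hxU (κ c') =
        algebraMap Γ((I * J).subscheme, U') _ (κ c') from rfl, ← hcw] at h1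
      have hu1 := IsLocalization.map_units ((I * J).subscheme.presheaf.stalk d) w'
      have hu2 := IsLocalization.map_units ((I * J).subscheme.presheaf.stalk d) w
      exact (Ideal.mul_unit_mem_iff_mem _ hu2).1 ((Ideal.unit_mul_mem_iff_mem _ hu1).1 h1)
    obtain ⟨⟨⟨a₀, ha₀⟩, m⟩, hm⟩ := (IsLocalization.mem_map_algebraMap_iff q.primeCompl
      ((I * J).subscheme.presheaf.stalk d)).1 (hKm.ge (Ideal.mem_span_singleton_self α))
    have hmu := IsLocalization.map_units ((I * J).subscheme.presheaf.stalk d) m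
    refine ⟨⟨a₀, ha₀, fun y hy => ?_, fun n hn => ?_⟩, fun y hy j hj => ?_⟩
    · have h1 : algebraMap _ ((I * J).subscheme.presheaf.stalk d) y ∈
          (Ideal.span {a₀}).map (algebraMap _ ((I * J).subscheme.presheaf.stalk d)) := by
        rw [Ideal.map_span, Set.image_singleton, ← hm, Ideal.span_singleton_mul_right_unit hmu, ← hKm]
        exact Ideal.mem_map_of_mem _ hy
      obtain ⟨u, hu, hu'⟩ := (IsLocalization.algebraMap_mem_map_algebraMap_iff q.primeCompl _ _ y).1 h1
      obtain ⟨c, hc⟩ := Ideal.mem_span_singleton'.1 hu'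
      exact ⟨u, hu, c, hc.symm⟩
    · have h1 : algebraMap _ ((I * J).subscheme.presheaf.stalk d) n ∈
          L.map (algebraMap _ ((I * J).subscheme.presheaf.stalk d)) := by
        rw [hLm]
        refine hann _ ?_
        have h2 := congrArg (algebraMap _ ((I * J).subscheme.presheaf.stalk d)) hn
        rw [map_mul, ← hm, map_zero, ← mul_assoc] at h2
        exact hmu.mul_left_eq_zero.1 h2
      obtain ⟨u, hu, hu'⟩ := (IsLocalization.algebraMap_mem_map_algebraMap_iff q.primeCompl _ _ n).1 h1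
      exact ⟨u, hu, hu'⟩
    · obtain ⟨c₁, hc₁⟩ := Ideal.mem_span_singleton'.1 (hKm.le (Ideal.mem_map_of_mem _ hy))
      obtain ⟨c₂, hc₂⟩ := Ideal.mem_span_singleton'.1 (hLm.le (Ideal.mem_map_of_mem _ hj))
      obtain ⟨u, hu⟩ := (IsLocalization.map_eq_zero_iff q.primeCompl ((I * J).subscheme.presheaf.stalk d) (y * j)).1
        (by rw [map_mul, ← hc₁, ← hc₂, mul_mul_mul_comm, hαβ, mul_zero])
      exact ⟨u.1, u.2, hu⟩
  exact rankAtStalk_quotient_add K L (fun q hq => (hst q hq).1)
    (fun y hy j hj => mul_eq_bot_of_local K L (fun q hq => (hst q hq).2) hy hj) _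

end Groth.Agent.RelCurveDiv
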