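import Groth.Agent.RelCurveDiv.Sum
import Groth.Agent.HilbDLib.ClosedSub
import Groth.Agent.HilbDLib.Diagonal
import Groth.Agent.FComplLib.IdealComap
import Groth.Agent.ModPairLib.Quot
import Groth.Agent.S1172

/-! Adding a point to a family of divisors. -/

noncomputable section

set_option linter.style.haveILetI false

universe u

open CategoryTheory CategoryTheory.Limits AlgebraicGeometry

namespace Groth.Agent.RelCurveDiv

open Groth.Agent HilbDLib

variable {X S : Scheme.{u}} (f : X ⟶ S)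

theorem isFinLocFreeOfDeg_one_id (T : Scheme.{u}) : Mor2.IsFinLocFreeOfDeg 1 (𝟙 T) :=
  ⟨⟨inferInstance, inferInstance, inferInstance⟩, fun y => by rw [Scheme.Hom.finrank_eq_one_of_isIso]; rfl⟩

variable [IsSeparated f]

theorem secGraph_deg (T : Over S) (x : T.left ⟶ X) (hx : x ≫ f = T.hom) :
    Mor2.IsFinLocFreeOfDeg 1 ((HilbD.secGraph f T x hx).subschemeι ≫ PicF.XTproj f T) := by
  haveI := isClosedImmersion_sec f T x hx
  rw [secGraph_eq, finLocFreeOfDeg_ker, sec_proj]
  exact isFinLocFreeOfDeg_one_id T.left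

theorem pull_secGraph {T T' : Over S} (g : T' ⟶ T) (x : T.left ⟶ X) (hx : x ≫ f = T.hom)
    (x' : T'.left ⟶ X) (hx' : x' ≫ f = T'.hom) (h : g.left ≫ x = x') :
    HilbD.pull f g (HilbD.secGraph f T x hx) = HilbD.secGraph f T' x' hx' := by
  subst h
  let a : T ⟶ Over.mk f := Over.homMk x hx
  let a' : T' ⟶ Over.mk f := Over.homMk (g.left ≫ x) hx'
  have e : g ≫ a = a' := Over.OverMorphism.ext rfl
  rw [secGraph_eq, secGraph_eq]
  calc HilbD.pull f g (sec f T a.left (Over.w a)).ker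
      = HilbD.pull f g (HilbD.pull f a (HilbD.secGraph f (Over.mk f) (𝟙 X) (Category.id_comp f))) := by
        rw [pull_diagonal]
    _ = (sec f T' a'.left (Over.w a')).ker := by rw [pull_pull, e, pull_diagonal]

theorem pull_mul {T T' : Over S} (g : T' ⟶ T) (I J : (PicF.XT f T).IdealSheafData) :
    HilbD.pull f g (I * J) = HilbD.pull f g I * HilbD.pull f g J := by
  simp only [pull_eq_comap, FComplLib.comap_mul]

variable [SmoothOfRelativeDimension 1 f]

theorem smooth_XTproj (T : Over S) : SmoothOfRelativeDimension 1 (PicF.XTproj f T) :=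
  haveI := AlgebraicGeometry.smoothOfRelativeDimension_isStableUnderBaseChange 1
  MorphismProperty.pullback_snd (P := @SmoothOfRelativeDimension 1) _ _ ‹_›

variable (d : ℕ) (H : Over S) (Z : HilbD.Obj f d H) (hZ : HilbD.IsUniversal f d H Z)
  (H' : Over S) (Z' : HilbD.Obj f (d + 1) H') (hZ' : HilbD.IsUniversal f (d + 1) H' Z')

include hZ hZ' in
theorem addPoint_finLocFree (T : Over S) (x : T.left ⟶ X) (hx : x ≫ f = T.hom) (p₁ : T ⟶ H)
    (hpb : IsPullback p₁.left x H.hom f) (m : T ⟶ H')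
    (hm : HilbD.pull f m Z'.1 = HilbD.pull f p₁ Z.1 * HilbD.secGraph f T x hx) :
    Mor2.IsFinLocFreeOfDeg (d + 1) m.left := by
  let ι := Z'.1.subschemeι
  let x' : Z'.1.subscheme ⟶ X := ι ≫ pullback.fst f H'.hom
  let TD : Over S := Over.mk ((ι ≫ PicF.XTproj f H') ≫ H'.hom)
  let q : TD ⟶ H' := Over.homMk (ι ≫ PicF.XTproj f H') rfl
  have hx' : x' ≫ f = TD.hom := by
    show (ι ≫ pullback.fst f H'.hom) ≫ f = (ι ≫ pullback.snd f H'.hom) ≫ H'.hom
    rw [Category.assoc, Category.assoc, pullback.condition]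
  haveI := smooth_XTproj f TD
  haveI := smooth_XTproj f T
  have hs : sec f TD x' hx' ≫ PicF.XTmap f q = ι := by
    apply pullback.hom_ext
    · rw [Category.assoc, show PicF.XTmap f q ≫ pullback.fst f H'.hom = pullback.fst f TD.hom ≫ 𝟙 X from
        pullback.lift_fst _ _ _, Category.comp_id, sec_fst]
    · rw [Category.assoc, show PicF.XTmap f q ≫ pullback.snd f H'.hom = PicF.XTproj f TD ≫ q.left from
        pullback.lift_snd _ _ _, ← Category.assoc, sec_proj, Category.id_comp]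
      rfl
  have hD : Mor2.IsFinLocFreeOfDeg (d + 1) ((HilbD.pull f q Z'.1).subschemeι ≫ PicF.XTproj f TD) :=
    isFinLocFreeOfDeg_pull f q Z'.1 Z'.2
  have hle : HilbD.pull f q Z'.1 ≤ HilbD.secGraph f TD x' hx' := by
    rw [pull_eq_comap, ← Scheme.IdealSheafData.le_map_iff_comap_le, secGraph_eq, Scheme.IdealSheafData.map_ker, hs]
    exact (Scheme.IdealSheafData.ker_subschemeι _).ge
  obtain ⟨Q, hQd, hQ⟩ := S1172.result (PicF.XTproj f TD) (HilbD.secGraph f TD x' hx') (HilbD.pull f q Z'.1) hle 1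
    (d + 1) (secGraph_deg f TD x' hx') hD
  obtain ⟨h, hh, -⟩ := hZ TD ⟨Q, by simpa using hQd⟩
  change HilbD.pull f h Z.1 = Q at hh
  let φ : TD ⟶ T := Over.homMk (hpb.lift h.left x' ((Over.w h).trans hx'.symm)) (by
    rw [← hx, hpb.lift_snd_assoc]; exact hx')
  have hφ1 : φ ≫ p₁ = h := Over.OverMorphism.ext (hpb.lift_fst _ _ _)
  have hφ2 : φ.left ≫ x = x' := hpb.lift_snd _ _ _
  have hg0 : Z'.1 ≤ (sec f T x hx ≫ PicF.XTmap f m).ker := by
    rw [← Scheme.IdealSheafData.map_ker, Scheme.IdealSheafData.le_map_iff_comap_le, ← pull_eq_comap, hm,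
      ← secGraph_eq]
    exact mul_le_right _ _
  let g : T.left ⟶ Z'.1.subscheme := IsClosedImmersion.lift ι (sec f T x hx ≫ PicF.XTmap f m)
    ((Scheme.IdealSheafData.ker_subschemeι Z'.1).le.trans hg0)
  have hg : g ≫ ι = sec f T x hx ≫ PicF.XTmap f m := IsClosedImmersion.lift_fac _ _ _
  have hgq : g ≫ ι ≫ PicF.XTproj f H' = m.left := by
    rw [reassoc_of% hg, show PicF.XTmap f m ≫ PicF.XTproj f H' = PicF.XTproj f T ≫ m.left from
      pullback.lift_snd _ _ _, ← Category.assoc, sec_proj, Category.id_comp]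
  have hgx : g ≫ x' = x := by
    show g ≫ ι ≫ pullback.fst f H'.hom = x
    rw [reassoc_of% hg, show PicF.XTmap f m ≫ pullback.fst f H'.hom = pullback.fst f T.hom ≫ 𝟙 X from
      pullback.lift_fst _ _ _, Category.comp_id, sec_fst]
  let g' : T ⟶ TD := Over.homMk g (by
    show g ≫ (ι ≫ PicF.XTproj f H') ≫ H'.hom = T.hom
    rw [← Category.assoc, hgq]; exact Over.w m)
  have hg'q : g' ≫ q = m := Over.OverMorphism.ext hgq
  have hA : φ ≫ m = q := (hZ' TD ⟨_, hD⟩).unique (by
    show HilbD.pull f (φ ≫ m) Z'.1 = HilbD.pull f q Z'.1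
    rw [← pull_pull, hm, pull_mul, pull_pull, hφ1, hh, pull_secGraph f φ x hx x' hx' hφ2, mul_comm, ← hQ]) rfl
  have hc : BlowUp.IsEffCartierIdeal (HilbD.secGraph f T x hx) := by
    obtain ⟨⟨a, b, c⟩, -⟩ := secGraph_deg f T x hx
    haveI := a
    exact isEffCartier_of_quasiFinite (PicF.XTproj f T) _ inferInstance b c
  have hB : g' ≫ h = p₁ := by
    refine (hZ T ⟨HilbD.pull f g' Q, isFinLocFreeOfDeg_pull f g' Q (by simpa using hQd)⟩).unique ?_ ?_
    · show HilbD.pull f (g' ≫ h) Z.1 = HilbD.pull f g' Q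
      rw [← pull_pull, hh]
    · show HilbD.pull f p₁ Z.1 = HilbD.pull f g' Q
      refine (_root_.ModPairLib.eq_of_mul_eq_mul hc ?_).symm
      rw [← hm, ← hg'q, ← pull_pull, hQ, pull_mul, pull_secGraph f g' x' hx' x hx hgx, mul_comm]
  have h1 : φ.left ≫ g = 𝟙 _ := by
    rw [← cancel_mono ι, Category.assoc, Category.id_comp, hg]
    apply pullback.hom_ext
    · rw [Category.assoc, Category.assoc, show PicF.XTmap f m ≫ pullback.fst f H'.hom =
        pullback.fst f T.hom ≫ 𝟙 X from pullback.lift_fst _ _ _, Category.comp_id, sec_fst, hφ2]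
    · rw [Category.assoc, Category.assoc, show PicF.XTmap f m ≫ pullback.snd f H'.hom =
        PicF.XTproj f T ≫ m.left from pullback.lift_snd _ _ _, ← Category.assoc (sec f T x hx), sec_proj,
        Category.id_comp]
      exact congrArg CommaMorphism.left hA
  have h2 : g ≫ φ.left = 𝟙 _ := by
    apply hpb.hom_ext
    · rw [Category.assoc, Category.id_comp]
      exact (congrArg (g ≫ ·) (congrArg CommaMorphism.left hφ1)).trans (congrArg CommaMorphism.left hB)
    · rw [Category.assoc, Category.id_comp, hφ2, hgx]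
  haveI : IsIso g := ⟨φ.left, h2, h1⟩
  obtain ⟨⟨a, b, c⟩, e⟩ := Z'.2
  rw [← hgq]
  haveI := a
  haveI := b
  haveI := c
  exact ⟨⟨inferInstance, inferInstance, inferInstance⟩, fun y => by
    rw [Scheme.Hom.finrank_comp_left_of_isIso]; exact e y⟩

end Groth.Agent.RelCurveDiv
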