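import Groth.Agent.RelCurveDiv.Sum
import Groth.Agent.ModPairLib.Quot
import Groth.Agent.S1172
import Groth.Prelude.Def_W4c6dblnestedhilbptsFlags

/-! Flags of relative divisors and their edges. -/

noncomputable section

set_option linter.style.haveILetI false

universe u

open CategoryTheory AlgebraicGeometry HilbD

namespace Groth.Agent.RelCurveDiv

open Groth.Agent

variable {X S : Scheme.{u}} (f : X ⟶ S) [SmoothOfRelativeDimension 1 f]

theorem isEffCartier_of_isDiv {d : ℕ} {I : X.IdealSheafData} (hI : IsDivOfDeg f d I) :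
    BlowUp.IsEffCartierIdeal I := by
  obtain ⟨⟨h1, h2, h3⟩, -⟩ := hI
  haveI := h1
  exact isEffCartier_of_quasiFinite f I inferInstance h2 h3

theorem isDiv_mul {a b : ℕ} {I J : X.IdealSheafData} (hI : IsDivOfDeg f a I) (hJ : IsDivOfDeg f b J) :
    IsDivOfDeg f (a + b) (I * J) :=
  ⟨(isFinLocFree_mul f hI.1 hJ.1).2.2, fun y => by rw [finrank_mul f hI.1 hJ.1, hI.2, hJ.2]⟩

omit [SmoothOfRelativeDimension 1 f] in
theorem eq_top_of_isDiv_zero {I : X.IdealSheafData} (hI : IsDivOfDeg f 0 I) : I = ⊤ := by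
  have hempty : IsEmpty I.subscheme := ⟨fun z => by
    obtain ⟨⟨h1, h2, h3⟩, h4⟩ := hI
    haveI := h1
    haveI := h2
    have := Scheme.Hom.one_le_finrank_map (I.subschemeι ≫ f) z
    rw [h4] at this
    omega⟩
  rw [← Scheme.IdealSheafData.ker_subschemeι I]
  exact (Scheme.Hom.ker_eq_top_iff_isEmpty _).2 hempty

theorem eq_of_le_of_isDiv {d : ℕ} {I J : X.IdealSheafData} (hI : IsDivOfDeg f d I) (hJ : IsDivOfDeg f d J)
    (h : I ≤ J) : I = J := by
  obtain ⟨Q, hQ, e⟩ := S1172.result f J I h d d hJ hI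
  rw [Nat.sub_self] at hQ
  rw [e, eq_top_of_isDiv_zero f hQ, ← Scheme.IdealSheafData.one_eq_top, mul_one]

theorem cancel {d : ℕ} {E Q Q' : X.IdealSheafData} (hE : IsDivOfDeg f d E) (h : E * Q = E * Q') : Q = Q' :=
  _root_.ModPairLib.eq_of_mul_eq_mul (isEffCartier_of_isDiv f hE) (by rw [mul_comm Q, mul_comm Q', h])

variable (μ : YoungDiagram) (h00 : ((0, 0) : ℕ × ℕ) ∈ μ) (n : ℕ × ℕ → ℕ)

include h00 in
theorem existsUnique_edgeData (Z : ∀ c : ℕ × ℕ, c ∈ μ → X.IdealSheafData) (hZ : IsDnFlag f μ n Z) :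
    (∃! E : DnEdgeData μ X, E.IsOfType f n ∧ E.IsEdgesOf h00 Z) ∧
      ∀ E : DnEdgeData μ X, E.IsOfType f n → E.IsEdgesOf h00 Z →
        ∀ (c : ℕ × ℕ) (hc : c ∈ μ) (hi : 1 ≤ c.1) (hj : 1 ≤ c.2), E.gammaOne c hc hi hj = E.gammaTwo c hc hi hj := by
  obtain ⟨hd, hle⟩ := hZ
  have hv : ∀ (c : ℕ × ℕ) (hc : c ∈ μ), ∃ Q, IsDivOfDeg f (n c - n (c.1 - 1, c.2)) Q ∧
      Z c hc = Z (c.1 - 1, c.2) (mem_up hc) * Q := fun c hc =>
    S1172.result f _ _ (hle _ _ (mem_up hc) hc ⟨Nat.sub_le c.1 1, le_rfl⟩) _ _ (hd _ _) (hd _ _)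
  have hh : ∀ (c : ℕ × ℕ) (hc : c ∈ μ), ∃ Q, IsDivOfDeg f (n c - n (c.1, c.2 - 1)) Q ∧
      Z c hc = Z (c.1, c.2 - 1) (mem_left hc) * Q := fun c hc =>
    S1172.result f _ _ (hle _ _ (mem_left hc) hc ⟨le_rfl, Nat.sub_le c.2 1⟩) _ _ (hd _ _) (hd _ _)
  choose v hvd hve using hv
  choose h hhd hhe using hh
  refine ⟨⟨⟨Z (0, 0) h00, fun c hc _ => v c hc, fun c hc _ => h c hc⟩,
    ⟨⟨hd _ _, fun c hc _ => hvd c hc, fun c hc _ => hhd c hc⟩,
      ⟨rfl, fun c hc _ => hve c hc, fun c hc _ => hhe c hc⟩⟩, ?_⟩, ?_⟩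
  · rintro E ⟨-, e0, e1, e2⟩
    refine DnEdgeData.ext e0.symm ?_ ?_
    · funext c hc hi
      exact cancel f (hd _ (mem_up hc)) ((e1 c hc hi).symm.trans (hve c hc))
    · funext c hc hj
      exact cancel f (hd _ (mem_left hc)) ((e2 c hc hj).symm.trans (hhe c hc))
  · rintro E - ⟨-, e1, e2⟩ c hc hi hj
    have a1 : Z c hc = Z (c.1 - 1, c.2 - 1) (mem_left (mem_up hc)) * E.gammaOne c hc hi hj := by
      rw [DnEdgeData.gammaOne, mul_comm (E.vert c hc hi), ← mul_assoc, ← e2 (c.1 - 1, c.2) (mem_up hc) hj]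
      exact e1 c hc hi
    have a2 : Z c hc = Z (c.1 - 1, c.2 - 1) (mem_left (mem_up hc)) * E.gammaTwo c hc hi hj := by
      rw [DnEdgeData.gammaTwo, mul_comm (E.horiz c hc hj), ← mul_assoc, ← e1 (c.1, c.2 - 1) (mem_left hc) hi]
      exact e2 c hc hj
    exact cancel f (hd _ _) (a1.symm.trans a2)

/-- The flag built from edge data. -/
def flagOf (E : DnEdgeData μ X) : ℕ → ℕ → X.IdealSheafData
  | 0, 0 => E.base
  | i + 1, 0 => if h : ((i + 1, 0) : ℕ × ℕ) ∈ μ then flagOf E i 0 * E.vert (i + 1, 0) h (Nat.le_add_left 1 i) else ⊤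
  | i, j + 1 => if h : ((i, j + 1) : ℕ × ℕ) ∈ μ then flagOf E i j * E.horiz (i, j + 1) h (Nat.le_add_left 1 j) else ⊤

omit [SmoothOfRelativeDimension 1 f] in
theorem flagOf_succ (E : DnEdgeData μ X) (i j : ℕ) (h : ((i, j + 1) : ℕ × ℕ) ∈ μ) :
    flagOf μ E i (j + 1) = flagOf μ E i j * E.horiz (i, j + 1) h (Nat.le_add_left 1 j) := by
  cases i <;> simp [flagOf, h]

theorem existsUnique_flag (hn : IsRevPlanePartition μ n) (E : DnEdgeData μ X) (hE : E.IsOfType f n)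
    (hcomm : ∀ (c : ℕ × ℕ) (hc : c ∈ μ) (hi : 1 ≤ c.1) (hj : 1 ≤ c.2), E.gammaOne c hc hi hj ≤ E.gammaTwo c hc hi hj) :
    ∃! Z : ∀ c : ℕ × ℕ, c ∈ μ → X.IdealSheafData, IsDnFlag f μ n Z ∧ E.IsEdgesOf h00 Z := by
  obtain ⟨hb, hv, hh⟩ := hE
  have hdeg : ∀ j i, ((i, j) : ℕ × ℕ) ∈ μ → IsDivOfDeg f (n (i, j)) (flagOf μ E i j) := by
    intro j
    induction j with
    | zero =>
      intro i
      induction i with
      | zero => intro _; simpa [flagOf] using hb
      | succ i ih =>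
        intro hc
        have h1 := isDiv_mul f (ih (mem_up hc)) (hv (i + 1, 0) hc (Nat.le_add_left 1 i))
        have h2 : n (i, 0) ≤ n (i + 1, 0) := hn (mem_up hc) hc ⟨Nat.le_add_right i 1, le_rfl⟩
        simp only [Nat.add_sub_cancel] at h1
        rw [show n (i, 0) + (n (i + 1, 0) - n (i, 0)) = n (i + 1, 0) by omega] at h1
        simpa [flagOf, hc] using h1
    | succ j ih =>
      intro i hc
      have h1 := isDiv_mul f (ih i (mem_left hc)) (hh (i, j + 1) hc (Nat.le_add_left 1 j))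
      have h2 : n (i, j) ≤ n (i, j + 1) := hn (mem_left hc) hc ⟨le_rfl, Nat.le_add_right j 1⟩
      simp only [Nat.add_sub_cancel] at h1
      rw [show n (i, j) + (n (i, j + 1) - n (i, j)) = n (i, j + 1) by omega] at h1
      rwa [flagOf_succ μ E i j hc]
  have hvert : ∀ j i, ∀ hc : ((i + 1, j) : ℕ × ℕ) ∈ μ,
      flagOf μ E (i + 1) j = flagOf μ E i j * E.vert (i + 1, j) hc (Nat.le_add_left 1 i) := by
    intro j
    induction j with
    | zero => intro i hc; simp [flagOf, hc]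
    | succ j ih =>
      intro i hc
      have hup : ((i, j + 1) : ℕ × ℕ) ∈ μ := mem_up hc
      have hl : ((i + 1, j) : ℕ × ℕ) ∈ μ := mem_left hc
      have hg : E.gammaOne (i + 1, j + 1) hc (Nat.le_add_left 1 i) (Nat.le_add_left 1 j) =
          E.gammaTwo (i + 1, j + 1) hc (Nat.le_add_left 1 i) (Nat.le_add_left 1 j) := by
        have h1 : n (i, j + 1) ≤ n (i + 1, j + 1) := hn hup hc ⟨Nat.le_add_right i 1, le_rfl⟩
        have h2 : n (i, j) ≤ n (i, j + 1) := hn (mem_left hup) hup ⟨le_rfl, Nat.le_add_right j 1⟩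
        have h3 : n (i + 1, j) ≤ n (i + 1, j + 1) := hn hl hc ⟨le_rfl, Nat.le_add_right j 1⟩
        have h4 : n (i, j) ≤ n (i + 1, j) := hn (mem_up hl) hl ⟨Nat.le_add_right i 1, le_rfl⟩
        have d1 := isDiv_mul f (hv (i + 1, j + 1) hc (Nat.le_add_left 1 i)) (hh (i, j + 1) hup (Nat.le_add_left 1 j))
        have d2 := isDiv_mul f (hh (i + 1, j + 1) hc (Nat.le_add_left 1 j)) (hv (i + 1, j) hl (Nat.le_add_left 1 i))
        simp only [Nat.add_sub_cancel] at d1 d2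
        rw [show n (i + 1, j + 1) - n (i, j + 1) + (n (i, j + 1) - n (i, j)) = n (i + 1, j + 1) - n (i, j) by omega] at d1
        rw [show n (i + 1, j + 1) - n (i + 1, j) + (n (i + 1, j) - n (i, j)) = n (i + 1, j + 1) - n (i, j) by omega] at d2
        exact eq_of_le_of_isDiv f d1 d2 (hcomm (i + 1, j + 1) hc (Nat.le_add_left 1 i) (Nat.le_add_left 1 j))
      rw [flagOf_succ μ E (i + 1) j hc, ih i hl, flagOf_succ μ E i j hup, mul_assoc, mul_assoc]
      refine congrArg (flagOf μ E i j * ·) ?_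
      rw [mul_comm (E.vert (i + 1, j) hl _), mul_comm (E.horiz (i, j + 1) hup _)]
      exact hg.symm
  refine ⟨fun c _ => flagOf μ E c.1 c.2, ⟨⟨fun c hc => hdeg c.2 c.1 hc, ?_⟩, ?_, ?_, ?_⟩, ?_⟩
  · rintro ⟨i, j⟩ ⟨i', j'⟩ hc hc' ⟨h1, h2⟩
    show flagOf μ E i' j' ≤ flagOf μ E i j
    obtain ⟨a, rfl⟩ := Nat.exists_eq_add_of_le h1
    obtain ⟨b, rfl⟩ := Nat.exists_eq_add_of_le h2
    have hcol : ((i + a, j) : ℕ × ℕ) ∈ μ := μ.isLowerSet (⟨le_rfl, Nat.le_add_right j b⟩ : ((i + a, j) : ℕ × ℕ) ≤ (i + a, j + b)) hc'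
    have A : ∀ b, ((i + a, j + b) : ℕ × ℕ) ∈ μ → flagOf μ E (i + a) (j + b) ≤ flagOf μ E (i + a) j := by
      intro b
      induction b with
      | zero => intro _; exact le_rfl
      | succ b ih =>
        intro hm
        show flagOf μ E (i + a) (j + b + 1) ≤ _
        rw [flagOf_succ μ E (i + a) (j + b) hm]
        exact (mul_le_left _ _).trans (ih (mem_left hm))
    have B : ∀ a, ((i + a, j) : ℕ × ℕ) ∈ μ → flagOf μ E (i + a) j ≤ flagOf μ E i j := by
      intro a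
      induction a with
      | zero => intro _; exact le_rfl
      | succ a ih =>
        intro hm
        rw [show i + (a + 1) = i + a + 1 by omega, hvert j (i + a) hm]
        exact (mul_le_left _ _).trans (ih (mem_up hm))
    exact (A b hc').trans (B a hcol)
  · simp [flagOf]
  · rintro ⟨_ | i, j⟩ hc hi
    · exact absurd hi (by simp)
    · exact hvert j i hc
  · rintro ⟨i, _ | j⟩ hc hj
    · exact absurd hj (by simp)
    · exact flagOf_succ μ E i j hc
  · rintro Z ⟨-, z0, z1, z2⟩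
    funext c hc
    obtain ⟨i, j⟩ := c
    induction j with
    | zero =>
      induction i with
      | zero => simpa [flagOf] using z0
      | succ i ih =>
        rw [hvert 0 i hc, z1 (i + 1, 0) hc (Nat.le_add_left 1 i)]
        exact congrArg (· * _) (ih (mem_up hc))
    | succ j ih =>
      rw [flagOf_succ μ E i j hc, z2 (i, j + 1) hc (Nat.le_add_left 1 j)]
      exact congrArg (· * _) (ih (mem_left hc))

end Groth.Agent.RelCurveDiv
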