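import Groth.Agent.RelCurveDiv.AddPoint
import Groth.Agent.RelCurveDiv.Flags
import Groth.Agent.SrcDescent.SmoothFppf

/-! Smoothness of the scheme of divisors of a curve family. -/

noncomputable section

set_option linter.style.haveILetI false

universe u

open CategoryTheory CategoryTheory.Limits AlgebraicGeometry

namespace Groth.Agent.RelCurveDiv

open Groth.Agent HilbDLib

variable {X S : Scheme.{u}} (f : X ⟶ S)

theorem top_deg_zero (T : Over S) :
    Mor2.IsFinLocFreeOfDeg 0 ((⊤ : (PicF.XT f T).IdealSheafData).subschemeι ≫ PicF.XTproj f T) := by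
  haveI : IsEmpty (⊤ : (PicF.XT f T).IdealSheafData).subscheme := ⟨fun z => by
    have h := Set.mem_range_self (f := (⊤ : (PicF.XT f T).IdealSheafData).subschemeι) z
    rw [Scheme.IdealSheafData.range_subschemeι, Scheme.IdealSheafData.support_top] at h
    exact h⟩
  haveI : IsClosedImmersion ((⊤ : (PicF.XT f T).IdealSheafData).subschemeι ≫ PicF.XTproj f T) :=
    IsClosedImmersion.of_isPreimmersion _ (by rw [Set.range_eq_empty]; exact isClosed_empty)
  have hfl : Flat ((⊤ : (PicF.XT f T).IdealSheafData).subschemeι ≫ PicF.XTproj f T) := inferInstance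
  have hfp : LocallyOfFinitePresentation ((⊤ : (PicF.XT f T).IdealSheafData).subschemeι ≫ PicF.XTproj f T) :=
    inferInstance
  refine ⟨⟨inferInstance, hfl, hfp⟩, fun y => ?_⟩
  haveI := hfl
  haveI := hfp
  by_contra hne
  let g := (⊤ : (PicF.XT f T).IdealSheafData).subschemeι ≫ PicF.XTproj f T
  let j := T.left.fromSpecResidueField y
  have hs : Surjective (pullback.snd g j) := (Scheme.Hom.one_le_finrank_iff_surjective _).1 fun z => by
    rw [Scheme.Hom.finrank_pullback_snd,
      show j z = y from T.left.fromSpecResidueField_apply y z]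
    exact Nat.one_le_iff_ne_zero.2 hne
  obtain ⟨w, -⟩ := hs.surj (show Spec (T.left.residueField y) from IsLocalRing.closedPoint _)
  exact IsEmpty.false (pullback.fst g j w)

variable [IsSeparated f] [SmoothOfRelativeDimension 1 f]

theorem smooth_of_isUniversal (hrep : ∀ e : ℕ, HilbD.Representable f e) :
    ∀ (d : ℕ) (H : Over S) (Z : HilbD.Obj f d H), HilbD.IsUniversal f d H Z → Smooth H.hom := by
  intro d
  induction d with
  | zero =>
    intro H Z hZ
    let T : Over S := Over.mk (𝟙 S)
    obtain ⟨σ, -, -⟩ := hZ T ⟨⊤, top_deg_zero f T⟩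
    have h1 : (Over.homMk H.hom (Category.comp_id _) : H ⟶ T) ≫ σ = 𝟙 H := by
      haveI := smooth_XTproj f H
      refine (hZ H Z).unique ?_ (pull_id f Z.1)
      rw [eq_top_of_isDiv_zero (PicF.XTproj f H) Z.2]
      exact eq_top_of_isDiv_zero (PicF.XTproj f H) (isFinLocFreeOfDeg_pull f _ _ (top_deg_zero f H))
    haveI : IsIso H.hom := ⟨σ.left, congrArg CommaMorphism.left h1, Over.w σ⟩
    infer_instance
  | succ d ih =>
    intro H' Z' hZ'
    haveI := SmoothOfRelativeDimension.smooth 1 f
    obtain ⟨H, Z, hZ⟩ := hrep d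
    haveI := ih H Z hZ
    let T : Over S := Over.mk (pullback.fst H.hom f ≫ H.hom)
    let p₁ : T ⟶ H := Over.homMk (pullback.fst H.hom f) rfl
    have hx : pullback.snd H.hom f ≫ f = T.hom := pullback.condition.symm
    haveI := smooth_XTproj f T
    obtain ⟨m, hm, -⟩ := hZ' T ⟨_, isDiv_mul (PicF.XTproj f T) (isFinLocFreeOfDeg_pull f p₁ Z.1 Z.2)
      (secGraph_deg f T (pullback.snd H.hom f) hx)⟩
    have hpb : IsPullback p₁.left (pullback.snd H.hom f) H.hom f := IsPullback.of_hasPullback H.hom f
    obtain ⟨⟨a, b, c⟩, e⟩ := addPoint_finLocFree f d H Z hZ H' Z' hZ' T (pullback.snd H.hom f) hx p₁ hpb m hm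
    haveI := a
    haveI := b
    haveI := c
    haveI : Surjective m.left :=
      (Scheme.Hom.one_le_finrank_iff_surjective m.left).1 fun y => by rw [e y]; exact Nat.le_add_left 1 d
    haveI : Smooth (m.left ≫ H'.hom) := by
      rw [Over.w m]
      haveI : Smooth (pullback.fst H.hom f) := MorphismProperty.pullback_fst (P := @Smooth) _ _ inferInstance
      exact inferInstanceAs (Smooth (pullback.fst H.hom f ≫ H.hom))
    exact SrcDescent.smooth_of_fppf_comp m.left H'.hom

end Groth.Agent.RelCurveDiv
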