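import Groth.Agent.RelCurveDiv.Sum
import Groth.Agent.HilbDLib.ClosedSub
import Groth.Agent.FComplLib.IdealComap
import Groth.Agent.S1172

/-! Divisors become sums of sections after a finite flat base change. -/

noncomputable section

set_option linter.style.haveILetI false

universe u

open CategoryTheory CategoryTheory.Limits AlgebraicGeometry

namespace Groth.Agent.RelCurveDiv

open Groth.Agent

theorem finLocFreeOfDeg_of_isPullback {d : ℕ} {P D T S : Scheme.{u}} {a : P ⟶ D} {p : P ⟶ T} {q : D ⟶ S}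
    {b : T ⟶ S} (H : IsPullback a p q b) (h : Mor2.IsFinLocFreeOfDeg d q) : Mor2.IsFinLocFreeOfDeg d p := by
  obtain ⟨⟨h1, h2, h3⟩, h4⟩ := h
  haveI := h1
  haveI := h2
  exact ⟨⟨MorphismProperty.of_isPullback H inferInstance, MorphismProperty.of_isPullback H inferInstance,
    MorphismProperty.of_isPullback H inferInstance⟩, fun y => by
      rw [Scheme.Hom.finrank_of_isPullback _ _ _ _ H]; exact h4 _⟩

variable {C S : Scheme.{u}} (f : C ⟶ S)

theorem deg_comap_fst {T : Scheme.{u}} (b : T ⟶ S) {d : ℕ} (I : C.IdealSheafData)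
    (hI : Mor2.IsFinLocFreeOfDeg d (I.subschemeι ≫ f)) :
    Mor2.IsFinLocFreeOfDeg d ((I.comap (pullback.fst f b)).subschemeι ≫ pullback.snd f b) := by
  have e : I.comap (pullback.fst f b) = (pullback.fst (pullback.fst f b) I.subschemeι).ker := by
    rw [Scheme.IdealSheafData.ker_fst_of_isClosedImmersion, Scheme.IdealSheafData.ker_subschemeι]
  rw [e, HilbDLib.finLocFreeOfDeg_ker]
  exact finLocFreeOfDeg_of_isPullback
    ((IsPullback.of_hasPullback (pullback.fst f b) I.subschemeι).flip.paste_vert (IsPullback.of_hasPullback f b)) hI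

variable [IsSeparated f]

theorem isClosedImmersion_section {T : Scheme.{u}} {b : T ⟶ S} (σ : T ⟶ pullback f b)
    (hσ : σ ≫ pullback.snd f b = 𝟙 T) : IsClosedImmersion σ := by
  have : IsClosedImmersion (σ ≫ pullback.snd f b) := by rw [hσ]; infer_instance
  exact IsClosedImmersion.of_comp σ (pullback.snd f b)

theorem deg_section {T : Scheme.{u}} {b : T ⟶ S} (σ : T ⟶ pullback f b) (hσ : σ ≫ pullback.snd f b = 𝟙 T) :
    Mor2.IsFinLocFreeOfDeg 1 (σ.ker.subschemeι ≫ pullback.snd f b) := by
  haveI := isClosedImmersion_section f σ hσ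
  rw [HilbDLib.finLocFreeOfDeg_ker, hσ]
  exact ⟨⟨inferInstance, inferInstance, inferInstance⟩, fun y => by rw [Scheme.Hom.finrank_eq_one_of_isIso]; rfl⟩

/-- The kernel of a section pulls back to the kernel of the pulled back section. -/
theorem ker_section_comap {T T' : Scheme.{u}} {b : T ⟶ S} (σ : T ⟶ pullback f b) (hσ : σ ≫ pullback.snd f b = 𝟙 T)
    (b' : T' ⟶ T) (σ' : T' ⟶ pullback f (b' ≫ b)) (hσ' : σ' ≫ pullback.snd f (b' ≫ b) = 𝟙 T')
    (m : pullback f (b' ≫ b) ⟶ pullback f b) (hm₁ : m ≫ pullback.fst f b = pullback.fst f (b' ≫ b))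
    (hm₂ : m ≫ pullback.snd f b = pullback.snd f (b' ≫ b) ≫ b') (h : σ' ≫ m = b' ≫ σ) :
    σ.ker.comap m = σ'.ker := by
  haveI := isClosedImmersion_section f σ hσ
  have hm : IsPullback m (pullback.snd f (b' ≫ b)) (pullback.snd f b) b' :=
    IsPullback.of_right (by rw [hm₁]; exact IsPullback.of_hasPullback f (b' ≫ b)) hm₂
      (IsPullback.of_hasPullback f b)
  have hp : IsPullback σ' b' m σ := by
    refine (IsPullback.of_bot ?_ h.symm hm).flip
    rw [hσ, hσ']
    exact IsPullback.of_vert_isIso ⟨by simp⟩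
  rw [← Scheme.IdealSheafData.ker_fst_of_isClosedImmersion, ← hp.isoPullback_hom_fst, Scheme.Hom.ker_comp_of_isIso]

theorem exists_sum_sections : ∀ (d : ℕ) {C S : Scheme.{u}} (f : C ⟶ S) [IsSeparated f] [SmoothOfRelativeDimension 1 f]
    (I : C.IdealSheafData) (_ : Mor2.IsFinLocFreeOfDeg d (I.subschemeι ≫ f)),
    ∃ (S' : Scheme.{u}) (b : S' ⟶ S), Flat b ∧ Surjective b ∧ LocallyOfFinitePresentation b ∧
      ∃ σ : Fin d → (S' ⟶ pullback f b), (∀ i, σ i ≫ pullback.snd f b = 𝟙 S') ∧
        I.comap (pullback.fst f b) = ∏ i, (σ i).ker := by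
  intro d
  induction d with
  | zero =>
    intro C S f _ _ I hD
    refine ⟨S, 𝟙 S, inferInstance, inferInstance, inferInstance, fun i => i.elim0, fun i => i.elim0, ?_⟩
    have hempty : IsEmpty I.subscheme := ⟨fun z => by
      obtain ⟨⟨h1, h2, h3⟩, h4⟩ := hD
      haveI := h1
      haveI := h2
      have := Scheme.Hom.one_le_finrank_map (I.subschemeι ≫ f) z
      rw [h4] at this
      omega⟩
    have : I = ⊤ := by
      rw [← Scheme.IdealSheafData.ker_subschemeι I]
      exact (Scheme.Hom.ker_eq_top_iff_isEmpty _).2 hempty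
    rw [this]
    simp
  | succ d ih =>
    intro C S f _ _ I hD
    let b₁ : I.subscheme ⟶ S := I.subschemeι ≫ f
    let σ₀ : I.subscheme ⟶ pullback f b₁ := pullback.lift I.subschemeι (𝟙 _) (Category.id_comp _).symm
    have hσ₀ : σ₀ ≫ pullback.snd f b₁ = 𝟙 _ := pullback.lift_snd _ _ _
    haveI := AlgebraicGeometry.smoothOfRelativeDimension_isStableUnderBaseChange 1
    haveI : SmoothOfRelativeDimension 1 (pullback.snd f b₁) :=
      MorphismProperty.pullback_snd (P := @SmoothOfRelativeDimension 1) _ _ ‹_›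
    have hle : I.comap (pullback.fst f b₁) ≤ σ₀.ker := by
      rw [← Scheme.IdealSheafData.le_map_iff_comap_le, Scheme.IdealSheafData.map_ker,
        show σ₀ ≫ pullback.fst f b₁ = I.subschemeι from pullback.lift_fst _ _ _, Scheme.IdealSheafData.ker_subschemeι]
    obtain ⟨Q, hQd, hQ⟩ := S1172.result (pullback.snd f b₁) σ₀.ker (I.comap (pullback.fst f b₁)) hle 1 (d + 1)
      (deg_section f σ₀ hσ₀) (deg_comap_fst f b₁ I hD)
    obtain ⟨S', b₂, hb1, hb2, hb3, σ, hσ, hQσ⟩ := ih (pullback.snd f b₁) Q (by simpa using hQd)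
    obtain ⟨⟨h1, h2, h3⟩, h4⟩ := hD
    haveI := h1
    haveI := h2
    haveI := h3
    haveI : Surjective b₁ := (Scheme.Hom.one_le_finrank_iff_surjective b₁).1 fun y => by
      rw [h4 y]; exact Nat.le_add_left 1 d
    let e := pullbackLeftPullbackSndIso f b₁ b₂
    let σ' : S' ⟶ pullback f (b₂ ≫ b₁) := pullback.lift (b₂ ≫ I.subschemeι) (𝟙 _)
      (by simp only [Category.assoc, Category.id_comp, b₁])
    let m : pullback f (b₂ ≫ b₁) ⟶ pullback f b₁ := e.inv ≫ pullback.fst _ _
    refine ⟨S', b₂ ≫ b₁, inferInstance, inferInstance, inferInstance,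
      Fin.cons σ' (fun i => σ i ≫ e.hom), ?_, ?_⟩
    · intro i
      refine Fin.cases ?_ (fun j => ?_) i
      · rw [Fin.cons_zero]; exact pullback.lift_snd _ _ _
      · rw [Fin.cons_succ, Category.assoc, pullbackLeftPullbackSndIso_hom_snd, hσ]
    · have hm₁ : m ≫ pullback.fst f b₁ = pullback.fst f (b₂ ≫ b₁) := by
        rw [Category.assoc, Iso.inv_comp_eq, pullbackLeftPullbackSndIso_hom_fst]
      have hm₂ : m ≫ pullback.snd f b₁ = pullback.snd f (b₂ ≫ b₁) ≫ b₂ := by
        rw [Category.assoc, Iso.inv_comp_eq, pullback.condition, pullbackLeftPullbackSndIso_hom_snd_assoc]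
      rw [Fin.prod_univ_succ, ← hm₁, Scheme.IdealSheafData.comap_comp, hQ, FComplLib.comap_mul]
      congr 1
      · refine (ker_section_comap f σ₀ hσ₀ b₂ σ' (pullback.lift_snd _ _ _) m hm₁ hm₂ ?_).trans (by rw [Fin.cons_zero])
        apply pullback.hom_ext
        · refine (Category.assoc σ' m _).trans ?_
          rw [hm₁, pullback.lift_fst, Category.assoc, show σ₀ ≫ pullback.fst f b₁ = I.subschemeι from
            pullback.lift_fst _ _ _]
        · refine (Category.assoc σ' m _).trans ?_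
          rw [hm₂, Category.assoc, hσ₀, pullback.lift_snd_assoc, Category.id_comp, Category.comp_id]
      · simp only [Fin.cons_succ, m, Scheme.IdealSheafData.comap_comp, hQσ]
        refine (map_prod (⟨⟨fun J : (pullback (pullback.snd f b₁) b₂).IdealSheafData => J.comap e.inv, by
          simp⟩, fun J J' => FComplLib.comap_mul _ J J'⟩ :
            (pullback (pullback.snd f b₁) b₂).IdealSheafData →* (pullback f (b₂ ≫ b₁)).IdealSheafData)
            (fun i => (σ i).ker) Finset.univ).trans ?_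
        refine Finset.prod_congr rfl fun i _ => ?_
        show (σ i).ker.comap e.inv = (σ i ≫ e.hom).ker
        haveI := isClosedImmersion_section (pullback.snd f b₁) (σ i) (hσ i)
        rw [← Scheme.IdealSheafData.ker_fst_of_isClosedImmersion]
        have hp : IsPullback (σ i ≫ e.hom) (𝟙 S') e.inv (σ i) := IsPullback.of_vert_isIso ⟨by simp⟩
        rw [← hp.isoPullback_hom_fst, Scheme.Hom.ker_comp_of_isIso]

end Groth.Agent.RelCurveDiv
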