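import Groth.Agent.RelCurveDiv.Smooth
import Groth.Agent.S1167

/-! Properness of the scheme of divisors of a proper curve family. -/

noncomputable section

set_option linter.style.haveILetI false

universe u

open CategoryTheory CategoryTheory.Limits AlgebraicGeometry

namespace Groth.Agent.RelCurveDiv

open Groth.Agent HilbDLib

variable {X S : Scheme.{u}} (f : X ⟶ S) [IsProper f] [SmoothOfRelativeDimension 1 f]

theorem isProper_of_isUniversal (hrep : ∀ e : ℕ, HilbD.Representable f e) :
    ∀ (d : ℕ) (H : Over S) (Z : HilbD.Obj f d H), HilbD.IsUniversal f d H Z → IsProper H.hom := by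
  intro d
  induction d with
  | zero =>
    intro H Z hZ
    let T : Over S := Over.mk (𝟙 S)
    obtain ⟨σ, -, -⟩ := hZ T ⟨⊤, top_deg_zero f T⟩
    have h1 : (Over.homMk H.hom (Category.comp_id _) : H ⟶ T) ≫ σ = 𝟙 H := by
      haveI := smooth_XTproj f H
      refine (hZ H Z).unique ?_ (pull_id f Z.1)
      rw [eq_top_of_isDiv_zero (PicF.XTproj f H) Z.2]
      exact eq_top_of_isDiv_zero (PicF.XTproj f H) (isFinLocFreeOfDeg_pull f _ _ (top_deg_zero f H))
    haveI : IsIso H.hom := ⟨σ.left, congrArg CommaMorphism.left h1, Over.w σ⟩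
    infer_instance
  | succ d ih =>
    intro H' Z' hZ'
    haveI := SmoothOfRelativeDimension.smooth 1 f
    obtain ⟨H, Z, hZ⟩ := hrep d
    haveI := ih H Z hZ
    let T : Over S := Over.mk (pullback.fst H.hom f ≫ H.hom)
    let p₁ : T ⟶ H := Over.homMk (pullback.fst H.hom f) rfl
    have hx : pullback.snd H.hom f ≫ f = T.hom := pullback.condition.symm
    haveI := smooth_XTproj f T
    obtain ⟨m, hm, -⟩ := hZ' T ⟨_, isDiv_mul (PicF.XTproj f T) (isFinLocFreeOfDeg_pull f p₁ Z.1 Z.2)
      (secGraph_deg f T (pullback.snd H.hom f) hx)⟩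
    have hpb : IsPullback p₁.left (pullback.snd H.hom f) H.hom f := IsPullback.of_hasPullback H.hom f
    haveI : Surjective m.left := by
      obtain ⟨⟨a, b, c⟩, e⟩ := addPoint_finLocFree f d H Z hZ H' Z' hZ' T (pullback.snd H.hom f) hx p₁ hpb m hm
      haveI := a
      haveI := b
      haveI := c
      exact (Scheme.Hom.one_le_finrank_iff_surjective m.left).1 fun y => by rw [e y]; exact Nat.le_add_left 1 d
    haveI : IsProper (m.left ≫ H'.hom) := by
      rw [Over.w m]
      haveI : IsProper (pullback.fst H.hom f) := MorphismProperty.pullback_fst (P := @IsProper) _ _ inferInstance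
      exact inferInstanceAs (IsProper (pullback.fst H.hom f ≫ H.hom))
    haveI : UniversallyClosed H'.hom := UniversallyClosed.of_comp_surjective m.left H'.hom
    haveI : IsSeparated H'.hom := S1167.result f (d + 1) H' Z' hZ'
    haveI : Smooth H'.hom := smooth_of_isUniversal f hrep (d + 1) H' Z' hZ'
    exact {}

end Groth.Agent.RelCurveDiv
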