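import Mathlib

/-! Ideals with flat quotient are detected on the closed fibre. -/

universe u

open IsLocalRing TensorProduct

set_option linter.style.haveILetI false

namespace Groth.Agent.RelCurveDiv

variable {A B : Type u} [CommRing A] [CommRing B] [Algebra A B]

/-- An element of `J` lying in `mB` lies in `mJ` when `B/J` is flat. -/
theorem mem_smul_of_flat_quotient (m : Ideal A) (J : Ideal B) [Module.Flat A (B ⧸ J)] {x : B}
    (hx : x ∈ J) (hm : x ∈ m.map (algebraMap A B)) : x ∈ m.map (algebraMap A B) • J := by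
  let i : (J.restrictScalars A) →ₗ[A] B := (J.restrictScalars A).subtype
  let q : B →ₗ[A] (B ⧸ J) := (Ideal.Quotient.mkₐ A J).toLinearMap
  have hinj : Function.Injective (i.lTensor (A ⧸ m)) :=
    LinearMap.lTensor_injective_of_exact_of_flat q Ideal.Quotient.mk_surjective i
      (J.restrictScalars A).injective_subtype
      (fun y => ⟨fun hy => ⟨⟨y, Ideal.Quotient.eq_zero_iff_mem.1 hy⟩, rfl⟩,
        fun ⟨z, hz⟩ => hz ▸ Ideal.Quotient.eq_zero_iff_mem.2 z.2⟩) _
  have h0 : i.lTensor (A ⧸ m) ((1 : A ⧸ m) ⊗ₜ ⟨x, hx⟩) = 0 := by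
    rw [LinearMap.lTensor_tmul]
    refine (TensorProduct.quotTensorEquivQuotSMul B m).injective ?_
    rw [map_zero]
    refine ((TensorProduct.quotTensorEquivQuotSMul_mk_tmul m (1 : A) x)).trans ?_
    rw [Submodule.Quotient.mk_eq_zero, one_smul, Ideal.smul_top_eq_map]
    exact hm
  have h1 := hinj (h0.trans (map_zero _).symm)
  have h2 := congrArg (TensorProduct.quotTensorEquivQuotSMul (J.restrictScalars A) m) h1
  rw [map_zero] at h2
  have h3 : (⟨x, hx⟩ : J.restrictScalars A) ∈ m • (⊤ : Submodule A (J.restrictScalars A)) := by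
    rw [← Submodule.Quotient.mk_eq_zero]
    refine Eq.trans ?_ h2
    refine ((TensorProduct.quotTensorEquivQuotSMul_mk_tmul m (1 : A) _).trans ?_).symm
    rw [one_smul]
  refine Submodule.smul_induction_on (p := fun (z : J.restrictScalars A) => (z : B) ∈ m.map (algebraMap A B) • J) h3
    (fun a ha z _ => ?_) (fun y z hy hz => ?_)
  · rw [Submodule.coe_smul_of_tower, ← algebraMap_smul B a (z : B)]
    exact Submodule.smul_mem_smul (Ideal.mem_map_of_mem (algebraMap A B) ha) z.2
  · exact add_mem hy hz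

/-- A locally principal fibre gives a locally principal ideal with flat quotient. -/
theorem exists_eq_span_of_fibre [IsLocalRing A] [IsLocalRing B] [IsLocalHom (algebraMap A B)]
    (J : Ideal B) (hfg : J.FG) [Module.Flat A (B ⧸ J)]
    [IsDomain (B ⧸ (maximalIdeal A).map (algebraMap A B))]
    [IsPrincipalIdealRing (B ⧸ (maximalIdeal A).map (algebraMap A B))]
    (hne : ¬ J ≤ (maximalIdeal A).map (algebraMap A B)) :
    ∃ a, J = Ideal.span {a} ∧
      Ideal.Quotient.mk ((maximalIdeal A).map (algebraMap A B)) a ∈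
        nonZeroDivisors (B ⧸ (maximalIdeal A).map (algebraMap A B)) := by
  set n := (maximalIdeal A).map (algebraMap A B)
  obtain ⟨b, hb⟩ := (IsPrincipalIdealRing.principal (J.map (Ideal.Quotient.mk n))).principal
  obtain ⟨a, ha, rfl⟩ : ∃ a ∈ J, Ideal.Quotient.mk n a = b :=
    (Ideal.mem_map_iff_of_surjective _ Ideal.Quotient.mk_surjective).1
      (hb ▸ Submodule.mem_span_singleton_self b)
  refine ⟨a, le_antisymm ?_ ((Ideal.span_singleton_le_iff_mem _).2 ha), ?_⟩
  · refine Submodule.le_of_le_smul_of_le_jacobson_bot (I := maximalIdeal B) hfg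
      (IsLocalRing.maximalIdeal_le_jacobson _) fun x hx => ?_
    obtain ⟨t, ht⟩ := Submodule.mem_span_singleton.1 (hb ▸ Ideal.mem_map_of_mem _ hx :
      Ideal.Quotient.mk n x ∈ Submodule.span _ {Ideal.Quotient.mk n a})
    obtain ⟨t, rfl⟩ := Ideal.Quotient.mk_surjective t
    rw [smul_eq_mul, ← map_mul, eq_comm, Ideal.Quotient.mk_eq_mk_iff_sub_mem] at ht
    refine Submodule.mem_sup.2 ⟨t * a, Submodule.smul_mem _ t (Submodule.mem_span_singleton_self a),
      x - t * a, ?_, add_sub_cancel _ _⟩
    exact Submodule.smul_mono_left (((IsLocalRing.local_hom_TFAE (algebraMap A B)).out 0 2).1 ‹_›)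
      (mem_smul_of_flat_quotient _ J (sub_mem hx (J.mul_mem_left t ha)) ht)
  · refine mem_nonZeroDivisors_of_ne_zero fun h => hne ?_
    rw [← Ideal.mk_ker (I := n), ← Ideal.map_eq_bot_iff_le_ker, hb, h]
    exact Submodule.span_singleton_eq_bot.2 rfl

/-- A nonzerodivisor with flat quotient is nonzero on the closed fibre. -/
theorem notMem_fibre_of_flat_quotient [IsLocalRing A] [IsLocalRing B] [IsLocalHom (algebraMap A B)]
    {a : B} (ha : a ∈ nonZeroDivisors B) [Module.Flat A (B ⧸ Ideal.span {a})] :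
    a ∉ (maximalIdeal A).map (algebraMap A B) := fun h => by
  have h1 := mem_smul_of_flat_quotient (maximalIdeal A) (Ideal.span {a}) (Submodule.mem_span_singleton_self a) h
  rw [smul_eq_mul, Ideal.mem_mul_span_singleton] at h1
  obtain ⟨t, ht, e⟩ := h1
  have hle : (maximalIdeal A).map (algebraMap A B) ≤ maximalIdeal B :=
    ((IsLocalRing.local_hom_TFAE (algebraMap A B)).out 0 2).1 ‹_›
  have ht' : t ∈ maximalIdeal B := hle ht
  have h2 : (1 - t) * a = 0 := by rw [sub_mul, one_mul, e, sub_self]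
  have h3 := (mem_nonZeroDivisors_iff.1 ha).2 _ h2
  exact (IsLocalRing.isUnit_one_sub_self_of_mem_nonunits t ht').ne_zero h3

end Groth.Agent.RelCurveDiv
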