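import Groth.Agent.FibFlat.Stalk
import Groth.Agent.S2768
import Groth.Agent.SchTop.Closed
import Groth.Agent.DimFormula.DedekindFlat
import Groth.Agent.S1535
import Groth.Agent.CurveCohLib.SubBundle

/-! Closed fibres of local rings of a smooth curve family. -/

noncomputable section

set_option linter.style.haveILetI false

universe u

open CategoryTheory CategoryTheory.Limits AlgebraicGeometry TopologicalSpace IsLocalRing

namespace Groth.Agent.RelCurveDiv

open Groth.Agent

variable {X S : Scheme.{u}} (f : X ⟶ S) [SmoothOfRelativeDimension 1 f]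

/-- The extension of the maximal ideal of the base. -/
abbrev fibIdeal (x : X) : Ideal (X.presheaf.stalk x) :=
  Ideal.map (f.stalkMap x).hom (maximalIdeal (S.presheaf.stalk (f x)))

theorem stalkFibre_facts (x : X) :
    IsDomain (X.presheaf.stalk x ⧸ fibIdeal f x) ∧ IsPrincipalIdealRing (X.presheaf.stalk x ⧸ fibIdeal f x) := by
  let G := f.fiber (f x)
  let z : G := f.asFiber x
  let φ := FibFlat.sm (f.fiberι (f x)) z x (f.fiberι_asFiber x)
  have hker : RingHom.ker φ = fibIdeal f x := by
    rw [fibIdeal, ← FibFlat.sm_self f x]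
    exact FibFlat.ker_sm_fiberι f (f x) z x (f.fiberι_asFiber x)
  haveI := AlgebraicGeometry.smoothOfRelativeDimension_isStableUnderBaseChange 1
  haveI : SmoothOfRelativeDimension 1 (f.fiberToSpecResidueField (f x)) :=
    MorphismProperty.pullback_snd (P := @SmoothOfRelativeDimension 1) _ _ ‹_›
  haveI : Smooth (f.fiberToSpecResidueField (f x)) := SmoothOfRelativeDimension.smooth 1 _
  letI : G.Over (Spec (CommRingCat.of (S.residueField (f x)))) := ⟨f.fiberToSpecResidueField (f x)⟩
  haveI : Smooth (G ↘ Spec (CommRingCat.of (S.residueField (f x)))) := ‹Smooth (f.fiberToSpecResidueField (f x))›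
  haveI : IsRegularLocalRing (G.presheaf.stalk z) := S1535.result (S.residueField (f x)) G z
  have hdim : ringKrullDim (G.presheaf.stalk z) ≤ 1 := by
    have h1 : FlatMor.fibreDimAt f x = ((1 : ℕ) : WithBot ℕ∞) := S2768.result 1 f x
    obtain ⟨⟨W, hzW⟩, hW⟩ := iInf_lt_iff.1
      (show FlatMor.localDim G z < ((2 : ℕ) : WithBot ℕ∞) from h1.trans_lt (by norm_num))
    have h2 : ringKrullDim (G.presheaf.stalk z) < ((2 : ℕ) : WithBot ℕ∞) := by
      refine lt_of_le_of_lt ?_ hW
      rw [← ringKrullDim_eq_of_ringEquiv (Scheme.Opens.stalkIso (X := G) W ⟨z, hzW⟩).commRingCatIsoToRingEquiv]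
      exact SchTop.ringKrullDim_stalk_le (X := Scheme.Opens.toScheme (X := G) W) ⟨z, hzW⟩
    rw [show ((2 : ℕ) : WithBot ℕ∞) = ((1 : ℕ) : WithBot ℕ∞) + 1 by norm_num] at h2
    simpa using ENat.WithBot.lt_add_one_iff.1 h2
  haveI := RegLoc6.isDomain_of_isRegularLocalRing (G.presheaf.stalk z)
  haveI := DimFormula.isPrincipalIdealRing_of_regular_dim_le_one hdim
  let e : X.presheaf.stalk x ⧸ fibIdeal f x ≃+* G.presheaf.stalk z :=
    (Ideal.quotEquivOfEq hker.symm).trans
      (RingHom.quotientKerEquivOfSurjective (FibFlat.surjective_sm z x (f.fiberι_asFiber x)))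
  exact ⟨e.toMulEquiv.isDomain _, IsPrincipalIdealRing.of_surjective e.symm.toRingHom e.symm.surjective⟩

end Groth.Agent.RelCurveDiv
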